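import Groth.Agent.Lib.BC8.Loc
import Groth.Agent.Lib.DlzSch27.Invertible
import Groth.Agent.Lib.DBaseChange.FieldCx
import Groth.Agent.Lib.DGen9.FibreCharts
import Groth.Agent.Lib.TorBal.Perfect
import Groth.Agent.Lib.Exact8.PerfFibres

/-! Locally shifted structure sheaves, detected at points. -/

set_option autoImplicit false
set_option linter.unusedSectionVars false
set_option linter.style.haveILetI false
set_option backward.isDefEq.respectTransparency false
set_option backward.isDefEq.respectTransparency.types false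
set_option maxHeartbeats 1000000

universe u

open CategoryTheory CategoryTheory.Limits AlgebraicGeometry

attribute [local instance] HasDerivedCategory.standard

namespace Groth.Agent.FMAdj9

open DMon9 DBaseChange

/-- Over a local ring: one-dimensional fibre in one degree means a shifted copy of the ring. -/
theorem nonempty_single_of_fibre {R : Type u} [CommRing R] [IsLocalRing R] (K : Dual.D R)
    (hK : DRing.IsPseudoCoherent' R K) [DRing.HasLBaseChange (Ideal.Quotient.mk (IsLocalRing.maximalIdeal R))] (j₀ : ℤ)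
    (h : Nonempty ((DRing.LBaseChange (Ideal.Quotient.mk (IsLocalRing.maximalIdeal R))).obj K ≅
      (DerivedCategory.singleFunctor _ j₀).obj (ModuleCat.of (R ⧸ IsLocalRing.maximalIdeal R)
        (R ⧸ IsLocalRing.maximalIdeal R)))) :
    Nonempty (K ≅ (DerivedCategory.singleFunctor _ j₀).obj (ModuleCat.of R R)) := by
  let m := IsLocalRing.maximalIdeal R
  letI := Ideal.Quotient.field m
  obtain ⟨e⟩ := h
  obtain ⟨-, -, ⟨P, -, hP, ⟨eP⟩⟩, -⟩ := minimal_aux m rfl K hK
  let S := ModuleCat.of (R ⧸ m) (R ⧸ m)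
  have hzero : ∀ i, i ≠ j₀ → IsZero (P.X i) := fun i hi => by
    obtain ⟨hfree, hfin, hr⟩ := hP i
    haveI := hfree
    haveI := hfin
    haveI : Subsingleton (Dual.HD (R ⧸ m) ((DRing.LBaseChange (Ideal.Quotient.mk m)).obj K) i) := by
      refine (DMod.isZero_iff_subsingleton _).1 (IsZero.of_iso ?_
        ((DerivedCategory.homologyFunctor _ i).mapIso e))
      rcases lt_or_gt_of_ne hi with h | h
      · exact DerivedCategory.isZero_of_isGE _ j₀ i h
      · exact DerivedCategory.isZero_of_isLE _ j₀ i h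
    have h0 : _root_.Module.finrank (R ⧸ m) (Dual.HD (R ⧸ m) ((DRing.LBaseChange (Ideal.Quotient.mk m)).obj K) i) = 0 :=
      _root_.Module.finrank_zero_of_subsingleton
    haveI : Subsingleton (P.X i) :=
      (LinearEquiv.ofFinrankEq (R := R) (P.X i) (Fin 0 → R)
        (hr.trans (h0.trans (_root_.Module.finrank_fin_fun R (n := 0)).symm))).toEquiv.subsingleton
    exact ModuleCat.isZero_of_subsingleton _
  haveI : P.IsStrictlyGE j₀ := (CochainComplex.isStrictlyGE_iff _ _).2 fun i hi => hzero i (by omega)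
  haveI : P.IsStrictlyLE j₀ := (CochainComplex.isStrictlyLE_iff _ _).2 fun i hi => hzero i (by omega)
  obtain ⟨Y, ⟨eY⟩⟩ := CochainComplex.exists_iso_single P j₀
  obtain ⟨hfree, hfin, hr⟩ := hP j₀
  haveI := hfree
  haveI := hfin
  have h1 : _root_.Module.finrank R (P.X j₀) = 1 := by
    rw [hr, ((DerivedCategory.homologyFunctor _ j₀).mapIso e ≪≫
      (DerivedCategory.singleFunctorCompHomologyFunctorIso (ModuleCat.{u} (R ⧸ m)) j₀).app S).toLinearEquiv.finrank_eq]
    exact _root_.Module.finrank_self _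
  let eX : P.X j₀ ≅ ModuleCat.of R R :=
    (LinearEquiv.ofFinrankEq (P.X j₀) R (by rw [h1, _root_.Module.finrank_self])).toModuleIso
  let eY' : Y ≅ ModuleCat.of R R :=
    (HomologicalComplex.singleObjXSelf (ComplexShape.up ℤ) j₀ Y).symm ≪≫
      ((HomologicalComplex.eval _ _ j₀).mapIso eY).symm ≪≫ eX
  exact ⟨eP.symm ≪≫ DerivedCategory.Q.mapIso eY ≪≫
    ((DerivedCategory.singleFunctorIsoCompQ _ j₀).app Y).symm ≪≫ (DerivedCategory.singleFunctor _ j₀).mapIso eY'⟩

/-- A residue field valued fibre in one degree gives a shifted free localization. -/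
theorem nonempty_loc_single {R : Type u} [CommRing R] (p : PrimeSpectrum R) (F : DRing.Cx R) (B : ℤ)
    [F.IsStrictlyLE B] (hF : DRing.TermwiseFiniteFree F)
    [DRing.HasLBaseChange ((Ideal.Quotient.mk (IsLocalRing.maximalIdeal (Localization p.asIdeal.primeCompl))).comp
      (algebraMap R (Localization p.asIdeal.primeCompl)))]
    [DRing.HasLBaseChange (algebraMap R (Localization p.asIdeal.primeCompl))] (j₀ : ℤ)
    (h : Nonempty ((DRing.LBaseChange ((Ideal.Quotient.mk
        (IsLocalRing.maximalIdeal (Localization p.asIdeal.primeCompl))).comp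
      (algebraMap R (Localization p.asIdeal.primeCompl)))).obj (DRing.toD F) ≅
      (DerivedCategory.singleFunctor _ j₀).obj (ModuleCat.of _
        (Localization p.asIdeal.primeCompl ⧸ IsLocalRing.maximalIdeal (Localization p.asIdeal.primeCompl))))) :
    Nonempty ((DRing.LBaseChange (algebraMap R (Localization p.asIdeal.primeCompl))).obj (DRing.toD F) ≅
      (DerivedCategory.singleFunctor _ j₀).obj (ModuleCat.of _ (Localization p.asIdeal.primeCompl))) := by
  let L := Localization p.asIdeal.primeCompl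
  let ι : R →+* L := algebraMap R L
  let π := Ideal.Quotient.mk (IsLocalRing.maximalIdeal L)
  have hflat : ∀ i, _root_.Module.Flat R (F.X i) := fun i => have := (hF i).2; inferInstance
  haveI : ((extCx ι).obj F).IsStrictlyLE B := (CochainComplex.isStrictlyLE_iff _ _).2 fun i hi =>
    Functor.map_isZero (ModuleCat.extendScalars.{u, u, u} ι) (F.isZero_of_isStrictlyLE B i hi)
  have hflat' : ∀ i, _root_.Module.Flat L (((extCx ι).obj F).X i) := fun i => by
    haveI := hflat i
    exact flat_ext_of_flat ι (F.X i)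
  haveI := DQC.hasLBaseChange π
  obtain ⟨e⟩ := h
  have hpc : DRing.IsPseudoCoherent' L (DRing.toD ((extCx ι).obj F)) :=
    ⟨_, B, (DMod.vanishesAbove_iff _ B).2 inferInstance, termwiseFiniteFree_ext ι hF, ⟨Iso.refl _⟩⟩
  obtain ⟨c⟩ := nonempty_single_of_fibre _ hpc j₀
    ⟨valueIso π _ (adapted_of_flat _ B hflat') ≪≫ DerivedCategory.Q.mapIso (extCompIso ι π F).symm ≪≫
      (valueIso (π.comp ι) F (adapted_of_flat F B hflat)).symm ≪≫ e⟩
  exact ⟨valueIso ι F (adapted_of_flat F B hflat) ≪≫ c⟩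

/-- The structure sheaf in one degree over an affine scheme. -/
theorem nonempty_oneD_tilde (R : CommRingCat.{u}) (n : ℤ) :
    Nonempty (TwistBC9.oneD (Spec R) n ≅
      (DPerf.tildeDD R).obj ((DerivedCategory.singleFunctor _ n).obj (ModuleCat.of R R))) := by
  haveI : PreservesFiniteLimits (tilde.functor R) := M1.tilde_preservesFiniteLimits
  exact ⟨(DerivedCategory.singleFunctor (Spec R).Modules n).mapIso
      (tildeSelf (R := R)).symm ≪≫
    (((tilde.functor R).mapDerivedCategorySingleFunctor n).app (ModuleCat.of R R)).symm⟩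

variable {X : Scheme.{u}}

/-- A shifted structure sheaf at every field valued point gives one locally. -/
theorem locShift_of_points [IsLocallyNoetherian X] {K : DCoh.D X} (a : ℤ) [K.IsGE a]
    (hpc : ∀ m : ℤ, DCoh.IsPseudoCoherentD m K)
    (h : ∀ (k : Type u) [Field k] (z : Spec (CommRingCat.of k) ⟶ X),
      ∃ n : ℤ, Nonempty ((lP z).obj K ≅ TwistBC9.oneD _ n)) : BC8.LocShift K := by
  intro x
  obtain ⟨U, hU, hxU, -⟩ := exists_isAffineOpen_mem_and_subset (x := x) (U := ⊤) trivial
  let R := Γ(X, U)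
  let j : Spec R ⟶ X := hU.fromSpec
  haveI : IsNoetherianRing R := IsLocallyNoetherian.component_noetherian ⟨U, hU⟩
  obtain ⟨M, ⟨eM⟩⟩ := DQC.exists_iso_of_isQCohD ((DPerf.resD j).obj K)
    (DQC.isQCohD_resD j (RelT.isQCohD_of_pc hpc))
  have hM : DRing.IsPseudoCoherent' R M := (DMod.pc'_iff M).2 fun m => (DPerf.pc_tilde_iff m M).1
    (DPerf.isPseudoCoherentD_of_approx
      ((RelPCS8.approx_res (DPerf.approx_of_isPseudoCoherentD (hpc m)) j).of_iso eM.symm))
  obtain ⟨F, B, hB, hF, ⟨eF⟩⟩ := hM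
  haveI := (DMod.vanishesAbove_iff F B).1 hB
  let p : PrimeSpectrum R := hU.primeIdealOf ⟨x, hxU⟩
  let L := Localization p.asIdeal.primeCompl
  let κ := L ⧸ IsLocalRing.maximalIdeal L
  letI : Field κ := Ideal.Quotient.field _
  let φ : R →+* κ := (Ideal.Quotient.mk (IsLocalRing.maximalIdeal L)).comp (algebraMap R L)
  let φ' : R ⟶ CommRingCat.of κ := CommRingCat.ofHom φ
  let eK : (lP j).obj K ≅ (DPerf.tildeDD R).obj (DRing.toD F) :=
    (lPRes j).app K ≪≫ eM.symm ≪≫ (DPerf.tildeDD R).mapIso eF.symm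
  haveI : ∀ T : CommRingCat.{u}, PreservesFiniteLimits (tilde.functor T) := fun _ => M1.tilde_preservesFiniteLimits
  obtain ⟨n, ⟨en⟩⟩ := h κ (Spec.map φ' ≫ j)
  haveI := DQC.hasLBaseChange φ'.hom
  haveI := DQC.hasLBaseChange (algebraMap R L)
  haveI : DRing.HasLBaseChange φ := DQC.hasLBaseChange _
  haveI := KFlat.Sch.hasLpull (Spec.map φ')
  obtain ⟨l⟩ := nonempty_lpull_natIso_lP (Spec.map φ')
  obtain ⟨o⟩ := nonempty_oneD_tilde (CommRingCat.of κ) n
  obtain ⟨ek⟩ := DlzSch27.nonempty_iso_of_tilde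
    ((KFlat.Sch.lpullTildeIso φ').app (DRing.toD F) ≪≫ l.app _ ≪≫ (lP (Spec.map φ')).mapIso eK.symm ≪≫
      (lPComp (Spec.map φ') j rfl).app K ≪≫ en ≪≫ o)
  obtain ⟨c⟩ := nonempty_loc_single p F B hF n ⟨ek⟩
  haveI : (DPerf.resD j).obj K |>.IsGE a := RHom.isGE_resD j K a
  have hGE : ∀ i, i < a → F.ExactAt i := RelT.exactAt_of_isGE_tilde
    (eM.symm ≪≫ (DPerf.tildeDD R).mapIso eF.symm)
  haveI : (DRing.toD F).IsGE a := (DMod.isGE_iff _ a).2 fun i hi => by
    rw [DMod.subsingleton_HD_toD_iff]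
    exact ModuleCat.subsingleton_of_isZero ((HomologicalComplex.exactAt_iff_isZero_homology _ i).1 (hGE i hi))
  obtain ⟨eW⟩ := DMod.exists_truncFrom_iso F a
  let W := DMod.truncFrom F a
  have hV := (DMod.vanishesOutside_iff W a B).1 (DMod.vanishesOutside_truncFrom F a B)
  haveI := hV.1
  haveI := hV.2
  have hfin : ∀ i, _root_.Module.Finite R (W.homology i) := fun i => by
    haveI : _root_.Module.Finite R (F.homology i) :=
      TorBal.finite_homology_of_termwiseFinite (fun k => (hF k).1) i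
    haveI : _root_.Module.Finite R
      ((HomologicalComplex.homologyFunctor (ModuleCat.{u} R) (ComplexShape.up ℤ) i).obj F) :=
      TorBal.finite_homology_of_termwiseFinite (fun k => (hF k).1) i
    exact _root_.Module.Finite.equiv (((DerivedCategory.homologyFunctorFactors _ i).app F).symm ≪≫
      (DerivedCategory.homologyFunctor _ i).mapIso eW.symm ≪≫
      (DerivedCategory.homologyFunctorFactors _ i).app W).toLinearEquiv
  obtain ⟨lc⟩ := Dlz27.exists_LBaseChange_iso p.asIdeal.primeCompl W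
  have hone : Dlz27.OneFree W p := (Dlz27.oneFree_iff_exists_iso W p).2 ⟨-n,
    ⟨lc.symm ≪≫ (DRing.LBaseChange (algebraMap R L)).mapIso eW ≪≫ c ≪≫
      (((DerivedCategory.singleFunctors (ModuleCat.{u} L)).shiftIso (-n) n 0 (by omega)).app _).symm⟩⟩
  obtain ⟨f, n', hf, ⟨ef⟩⟩ := DlzSch27.exists_away_of_oneFree W a B hfin p hone
  let S := CommRingCat.of (Localization.Away f)
  let ψ : R ⟶ S := CommRingCat.ofHom (algebraMap R (Localization.Away f))
  haveI : IsOpenImmersion (Spec.map ψ) := IsOpenImmersion.of_isLocalization f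
  haveI := DQC.hasLBaseChange ψ.hom
  haveI : DRing.HasLBaseChange (algebraMap R (Localization (Submonoid.powers f))) := DQC.hasLBaseChange _
  haveI := KFlat.Sch.hasLpull (Spec.map ψ)
  obtain ⟨lf⟩ := Dlz27.exists_LBaseChange_iso (Submonoid.powers f) W
  obtain ⟨l'⟩ := nonempty_lpull_natIso_lP (Spec.map ψ)
  obtain ⟨o'⟩ := nonempty_oneD_tilde S (-n')
  have eS : Nonempty ((DRing.LBaseChange ψ.hom).obj (DRing.toD F) ≅
      (DerivedCategory.singleFunctor _ (-n')).obj (ModuleCat.of S S)) :=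
    ⟨(DRing.LBaseChange (algebraMap R (Localization (Submonoid.powers f)))).mapIso eW.symm ≪≫ lf ≪≫ ef ≪≫
      ((DerivedCategory.singleFunctors (ModuleCat.{u} (Localization.Away f))).shiftIso n' (-n') 0 (by omega)).app _⟩
  refine ⟨Spec S, Spec.map ψ ≫ j, inferInstance, -n', ?_,
    ⟨((lPComp (Spec.map ψ) j rfl).app K).symm ≪≫ (lP (Spec.map ψ)).mapIso eK ≪≫ (l'.app _).symm ≪≫
      ((KFlat.Sch.lpullTildeIso ψ).app _).symm ≪≫ (DPerf.tildeDD S).mapIso eS.some ≪≫ o'.symm⟩⟩
  obtain ⟨q, hq⟩ : p ∈ Set.range (PrimeSpectrum.comap (algebraMap R (Localization.Away f))) := by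
    rw [PrimeSpectrum.localization_away_comap_range (Localization.Away f) f]; exact hf
  exact ⟨q, (congrArg hU.fromSpec hq).trans (hU.fromSpec_primeIdealOf ⟨x, hxU⟩)⟩

/-- Local shifts restrict to points. -/
theorem exists_shift_at_point {K : DCoh.D X} (h : BC8.LocShift K) {T : Scheme.{u}} [Unique T] (z : T ⟶ X) :
    ∃ n : ℤ, Nonempty ((lP z).obj K ≅ TwistBC9.oneD T n) := by
  obtain ⟨U, i, hi, n, ⟨y, hy⟩, ⟨c⟩⟩ := BC8.locShift_lP z h default
  haveI : Surjective i := ⟨fun t => ⟨y, Subsingleton.elim _ _⟩⟩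
  haveI : Epi i.base := (TopCat.epi_iff_surjective _).2 i.surjective
  haveI : IsIso i := IsOpenImmersion.isIso i
  obtain ⟨l⟩ := TwistBC9.nonempty_lP_oneM (inv i) n
  exact ⟨n, ⟨((DBC9.lPId T).app _).symm ≪≫ ((lPComp (inv i) i (IsIso.inv_hom_id i)).app _).symm ≪≫
    (lP (inv i)).mapIso c ≪≫ l⟩⟩

end Groth.Agent.FMAdj9
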