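import Groth.Agent.Lib.BC8.RelPerfShriek
import Groth.Agent.Lib.DlzSch27.Invertible
import Groth.Agent.Lib.DlzFin27.Apps
import Groth.Agent.Lib.GorFib27.Apps
import Groth.Agent.Lib.SmoothReg17.Basic
import Groth.Agent.Lib.FMAdj9.PointShift

/-! The dualizing complex of a proper scheme over a field. -/

set_option autoImplicit false
set_option linter.unusedSectionVars false
set_option linter.style.haveILetI false
set_option backward.isDefEq.respectTransparency false
set_option backward.isDefEq.respectTransparency.types false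
set_option maxHeartbeats 1600000
set_option synthInstance.maxHeartbeats 100000

universe u

open CategoryTheory CategoryTheory.Limits AlgebraicGeometry

attribute [local instance] HasDerivedCategory.standard

namespace Groth.Agent.FMAdj9

open DMon9 BC8

/-- Modules as quasi-coherent objects on the spectrum. -/
noncomputable def tildeQ (R : CommRingCat.{u}) : Dual.D R ⥤ DCoh.DQCoh (Spec R) :=
  ObjectProperty.lift _ (DPerf.tildeDD R) fun M => DQC.isQCohD_obj M

theorem isEquivalence_tildeQ (R : CommRingCat.{u}) : (tildeQ R).IsEquivalence := by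
  haveI : (tildeQ R).Faithful :=
    { map_injective := fun {M N} _ _ h => (DQC.bijective_map M N).1 (congrArg (fun f => f.hom) h :) }
  haveI : (tildeQ R).Full :=
    { map_surjective := fun {M N} v => by
        obtain ⟨w, hw⟩ := (DQC.bijective_map M N).2 v.hom
        exact ⟨w, ObjectProperty.hom_ext _ hw⟩ }
  haveI : (tildeQ R).EssSurj :=
    { mem_essImage := fun G => by
        obtain ⟨M, ⟨e⟩⟩ := DQC.exists_iso_of_isQCohD (R := R) G.obj G.property
        exact ⟨M, ⟨ObjectProperty.isoMk _ e⟩⟩ }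
  exact { }

/-- Duality for a finite morphism of affine schemes, in modules. -/
theorem isDualizing_of_shriek {P B : CommRingCat.{u}} (φ : P ⟶ B) [IsNoetherianRing P] [IsNoetherianRing B]
    (hfin : φ.hom.Finite) [DCoh.HasRpush (Spec.map φ)] {hφ : DCoh.RpushPreservesQCoh (Spec.map φ)}
    {a : DCoh.DQCoh (Spec P) ⥤ DCoh.DQCoh (Spec B)} (adj : DCoh.RpushQ (Spec.map φ) hφ ⊣ a)
    {ω : Dual.D P} (hω : Dual.IsDualizing P ω) {L : DCoh.DQCoh (Spec P)}
    (eL : L.obj ≅ (DPerf.tildeDD P).obj ω) :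
    ∃ M : Dual.D B, Dual.IsDualizing B M ∧ Nonempty ((a.obj L).obj ≅ (DPerf.tildeDD B).obj M) := by
  letI := φ.hom.toAlgebra
  haveI : Module.Finite P B := hfin
  haveI : PreservesFiniteLimits (tilde.functor P) := M1.tilde_preservesFiniteLimits
  haveI : PreservesFiniteLimits (tilde.functor B) := M1.tilde_preservesFiniteLimits
  haveI := isEquivalence_tildeQ P
  haveI := isEquivalence_tildeQ B
  let EP := (tildeQ P).asEquivalence
  let EB := (tildeQ B).asEquivalence
  obtain ⟨t⟩ := DPush9.nonempty_tildeD_rpush_iso φ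
  let t' : tildeQ B ⋙ DCoh.RpushQ (Spec.map φ) hφ ≅ DRing.restrictD φ.hom ⋙ tildeQ P :=
    Functor.fullyFaithfulCancelRight (ObjectProperty.ι _) (t :)
  let A : (tildeQ B ⋙ DCoh.RpushQ (Spec.map φ) hφ) ⋙ EP.inverse ⊣ tildeQ P ⋙ a ⋙ EB.inverse :=
    ((EB.toAdjunction.comp adj).comp EP.symm.toAdjunction :)
  let A' : DRing.restrictD φ.hom ⊣ tildeQ P ⋙ a ⋙ EB.inverse :=
    A.ofNatIsoLeft (Functor.isoWhiskerRight t' _ ≪≫ Functor.associator _ _ _ ≪≫
      Functor.isoWhiskerLeft _ EP.unitIso.symm ≪≫ Functor.rightUnitor _)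
  let eω : (tildeQ P).obj ω ≅ L := ObjectProperty.isoMk _ eL.symm
  refine ⟨_, DlzFin27.isDualizing_rightAdjoint (A := (P : Type u)) (B := (B : Type u)) _ A' hω,
    ⟨(ObjectProperty.ι _).mapIso ((a.mapIso eω).symm ≪≫ (EB.counitIso.app (a.obj ((tildeQ P).obj ω))).symm)⟩⟩

/-- A localized polynomial ring over a field is self dualizing. -/
theorem isDualizing_away_poly (k : Type u) [Field k] (n : ℕ) (g : MvPolynomial (Fin n) k) :
    Dual.IsDualizing (Localization.Away g) (Dual.inD (Localization.Away g) (Localization.Away g)) := by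
  haveI : Algebra.Smooth (MvPolynomial (Fin n) k) (Localization.Away g) :=
    ⟨Algebra.FormallySmooth.of_isLocalization (Submonoid.powers g), IsLocalization.Away.finitePresentation g⟩
  haveI : Algebra.Smooth k (MvPolynomial (Fin n) k) := ⟨inferInstance, inferInstance⟩
  haveI : Algebra.Smooth k (Localization.Away g) := Algebra.Smooth.comp k (MvPolynomial (Fin n) k) _
  haveI : IsNoetherianRing (Localization.Away g) :=
    IsLocalization.isNoetherianRing (Submonoid.powers g) _ inferInstance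
  refine Dlz27.isDualizing_self_of_regular
    (fun p => SmoothReg17.isRegularLocalRing_of_smooth (algebraMap k (Localization.Away g))
      (RingHom.smooth_algebraMap.2 inferInstance) p.asIdeal)
    (fun p h => @S0342.result (Localization.AtPrime p.asIdeal) _ h) ?_
  exact GorFib27.dim_lt_top_of_finiteType (A := k) (by rw [ringKrullDim_eq_zero_of_field]; exact WithBot.coe_lt_coe.2 WithTop.top_pos)

variable (k : Type u) [Field k] (n : ℕ)

theorem smooth_polyToSpec : Smooth (polyToProj k n ≫ CohB1.ProjSpace.toSpec n k) := by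
  rw [polyToProj_toSpec]
  exact (HasRingHomProperty.Spec_iff (P := @Smooth)).2 (RingHom.smooth_algebraMap.2 ⟨inferInstance, inferInstance⟩)

theorem isNoetherian_proj : IsNoetherian (CohB1.ProjSpace n k) := by
  haveI : IsNoetherian (Spec (CommRingCat.of k)) := inferInstance
  haveI : CompactSpace (CohB1.ProjSpace n k) := QuasiCompact.compactSpace_of_compactSpace (CohB1.ProjSpace.toSpec n k)
  haveI : IsLocallyNoetherian (CohB1.ProjSpace n k) :=
    LocallyOfFiniteType.isLocallyNoetherian (CohB1.ProjSpace.toSpec n k)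
  exact { }

/-- Near a point of affine space the twisted inverse image of `O` is a shift of `O`. -/
theorem exists_trivial_chart [DCoh.HasRpush (CohB1.ProjSpace.toSpec n k)]
    {h₀ : DCoh.RpushPreservesQCoh (CohB1.ProjSpace.toSpec n k)}
    {a : DCoh.DQCoh (Spec (CommRingCat.of k)) ⥤ DCoh.DQCoh (CohB1.ProjSpace n k)}
    (adj : DCoh.RpushQ (CohB1.ProjSpace.toSpec n k) h₀ ⊣ a) (q : PrimeSpectrum (MvPolynomial (Fin n) k)) :
    ∃ (g₁ : MvPolynomial (Fin n) k) (m : ℤ), g₁ ∉ q.asIdeal ∧
      Nonempty ((lP (Spec.map (CommRingCat.ofHom (algebraMap (MvPolynomial (Fin n) k) (Localization.Away g₁))) ≫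
        polyToProj k n)).obj (a.obj (oQ _)).obj ≅
          (DPerf.tildeDD (CommRingCat.of (Localization.Away g₁))).obj
            ((DerivedCategory.singleFunctor _ m).obj (ModuleCat.of (Localization.Away g₁) (Localization.Away g₁)))) := by
  haveI := smooth_polyToSpec k n
  haveI := isNoetherian_proj k n
  haveI : IsNoetherian (Spec (CommRingCat.of k)) := inferInstance
  haveI : IsSeparated (polyToProj k n ≫ CohB1.ProjSpace.toSpec n k) := inferInstance
  haveI : CompactSpace (Spec (CommRingCat.of (MvPolynomial (Fin n) k)) : Scheme.{u}) := PrimeSpectrum.compactSpace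
  haveI : QuasiCompact (polyToProj k n ≫ CohB1.ProjSpace.toSpec n k) := qc_of_qcqs _
  obtain ⟨W, i, hi, m, hqi, ⟨c⟩⟩ := locShift_smooth (polyToProj k n ≫ CohB1.ProjSpace.toSpec n k)
    (CohB1.ProjSpace.toSpec n k) (polyToProj k n) rfl adj q
  obtain ⟨_, ⟨g₁, rfl⟩, hqg, hgW⟩ := PrimeSpectrum.isTopologicalBasis_basic_opens.exists_subset_of_mem_open
    hqi i.isOpenEmbedding.isOpen_range
  let ι := Spec.map (CommRingCat.ofHom (algebraMap (MvPolynomial (Fin n) k) (Localization.Away g₁)))
  haveI : IsOpenImmersion ι := IsOpenImmersion.of_isLocalization g₁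
  let l := IsOpenImmersion.lift i ι
    (fun y hy => hgW ((PrimeSpectrum.localization_away_comap_range (Localization.Away g₁) g₁).subset hy))
  obtain ⟨o⟩ := TwistBC9.nonempty_lP_oneM l m
  obtain ⟨ot⟩ := nonempty_oneD_tilde (CommRingCat.of (Localization.Away g₁)) m
  exact ⟨g₁, m, hqg, ⟨((lPComp ι (polyToProj k n) rfl).app _).symm ≪≫
    ((lPComp l i (IsOpenImmersion.lift_fac _ _ _)).app _).symm ≪≫ (lP l).mapIso c ≪≫ o ≪≫ ot⟩⟩

variable {k n}

/-- The upper shriek of the structure sheaf of a proper scheme over a field is dualizing. -/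
theorem exists_dualizing_chart {Z : Scheme.{u}} (g : Z ⟶ Spec (CommRingCat.of k))
    [IsProper g] [DCoh.HasRpush g] {hg : DCoh.RpushPreservesQCoh g}
    {a : DCoh.DQCoh (Spec (CommRingCat.of k)) ⥤ DCoh.DQCoh Z} (adj : DCoh.RpushQ g hg ⊣ a) (x : Z) :
    ∃ (R : CommRingCat.{u}) (j : Spec R ⟶ Z) (_ : IsOpenImmersion j),
      x ∈ Set.range j ∧ ∃ M, Dual.IsDualizing R M ∧ DlzSch27.Mdl (a.obj (oQ _)).obj j M := by
  obtain ⟨U, hU, hxU, -⟩ := exists_isAffineOpen_mem_and_subset (X := Z) (x := x) (U := ⊤) trivial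
  let B := Γ(Z, U)
  let φ₀ : CommRingCat.of k ⟶ B := Spec.preimage (hU.fromSpec ≫ g)
  have hφ₀ : Spec.map φ₀ = hU.fromSpec ≫ g := Spec.map_preimage _
  letI : Algebra k B := φ₀.hom.toAlgebra
  haveI : LocallyOfFiniteType (Spec.map φ₀) := by rw [hφ₀]; infer_instance
  haveI : Algebra.FiniteType k B := by
    exact (HasRingHomProperty.Spec_iff (P := @LocallyOfFiniteType)).1 (show LocallyOfFiniteType (Spec.map φ₀) from inferInstance)
  obtain ⟨n, F, hF⟩ := Algebra.FiniteType.iff_quotient_mvPolynomial''.1 (inferInstance : Algebra.FiniteType k B)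
  let P := MvPolynomial (Fin n) k
  let p₀ := CohB1.ProjSpace.toSpec n k
  haveI : IsNoetherian (Spec (CommRingCat.of k)) := inferInstance
  haveI : CompactSpace (CohB1.ProjSpace n k) := QuasiCompact.compactSpace_of_compactSpace p₀
  haveI : IsLocallyNoetherian (CohB1.ProjSpace n k) := LocallyOfFiniteType.isLocallyNoetherian p₀
  haveI : IsNoetherian (CohB1.ProjSpace n k) := { }
  haveI := DBC9.hasRpush p₀
  let h₀ := rpushPreserves p₀
  haveI := isLeftAdjoint_rpushQ p₀ h₀
  let adj₀ := Adjunction.ofIsLeftAdjoint (DCoh.RpushQ p₀ h₀)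
  haveI := smooth_polyToSpec k n
  let q₀ := hU.primeIdealOf ⟨x, hxU⟩
  obtain ⟨g₁, m, hqg, ⟨eL₀⟩⟩ := exists_trivial_chart k n adj₀ (PrimeSpectrum.comap F.toRingHom q₀)
  let Pg := Localization.Away g₁
  let B' := Localization.Away (F g₁)
  let φ : CommRingCat.of Pg ⟶ CommRingCat.of B' := CommRingCat.ofHom (IsLocalization.Away.map Pg B' F.toRingHom g₁)
  haveI : IsLocalization ((Submonoid.powers g₁).map F.toRingHom) B' := by
    rw [Submonoid.map_powers]; exact inferInstanceAs (IsLocalization (Submonoid.powers (F g₁)) B')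
  have hs : Function.Surjective φ.hom :=
    IsLocalization.map_surjective_of_surjective (g := F.toRingHom) (Submonoid.powers g₁) Pg B' hF
  haveI : IsNoetherianRing Pg := IsLocalization.isNoetherianRing (Submonoid.powers g₁) _ inferInstance
  haveI : CompactSpace (Spec (CommRingCat.of Pg) : Scheme.{u}) := PrimeSpectrum.compactSpace
  haveI : IsNoetherianRing B := Algebra.FiniteType.isNoetherianRing k B
  haveI : IsNoetherianRing B' := IsLocalization.isNoetherianRing (Submonoid.powers (F g₁)) _ inferInstance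
  haveI : CompactSpace (Spec (CommRingCat.of B') : Scheme.{u}) := PrimeSpectrum.compactSpace
  let ι : Spec (CommRingCat.of Pg) ⟶ Spec (CommRingCat.of P) := Spec.map (CommRingCat.ofHom (algebraMap P Pg))
  haveI : IsOpenImmersion ι := IsOpenImmersion.of_isLocalization g₁
  let jP : Spec (CommRingCat.of Pg) ⟶ CohB1.ProjSpace n k := ι ≫ polyToProj k n
  let h : Spec (CommRingCat.of Pg) ⟶ Spec (CommRingCat.of k) := jP ≫ p₀
  haveI : IsSeparated h := inferInstance
  haveI : QuasiCompact h := qc_of_qcqs h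
  haveI : Smooth h := by
    show Smooth ((ι ≫ polyToProj k n) ≫ p₀)
    rw [Category.assoc]
    infer_instance
  haveI : IsClosedImmersion (Spec.map φ) := IsClosedImmersion.spec_of_surjective _ hs
  haveI := DBC9.hasRpush (Spec.map φ)
  let hφ := rpushPreserves (Spec.map φ)
  haveI := isLeftAdjoint_rpushQ (Spec.map φ) hφ
  let adjφ := Adjunction.ofIsLeftAdjoint (DCoh.RpushQ (Spec.map φ) hφ)
  let kk : Spec (CommRingCat.of B') ⟶ CohB1.ProjSpace n k := Spec.map φ ≫ jP
  haveI : QuasiCompact kk := qc_of_qcqs kk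
  let p' : kk.image ⟶ Spec (CommRingCat.of k) := kk.imageι ≫ p₀
  haveI : CompactSpace kk.image := QuasiCompact.compactSpace_of_compactSpace kk.imageι
  haveI : QuasiSeparatedSpace kk.image := quasiSeparatedSpace_of_quasiSeparated kk.imageι
  haveI := DBC9.hasRpush p'
  let h' := rpushPreserves p'
  haveI := isLeftAdjoint_rpushQ p' h'
  let adj' := Adjunction.ofIsLeftAdjoint (DCoh.RpushQ p' h')
  have hfac' : kk.toImage ≫ p' = Spec.map φ ≫ h := by
    rw [← Category.assoc, Scheme.Hom.toImage_imageι, Category.assoc]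
  let u : Spec (CommRingCat.of B') ⟶ Z := Spec.map (CommRingCat.ofHom (algebraMap B B')) ≫ hU.fromSpec
  haveI : IsOpenImmersion (Spec.map (CommRingCat.ofHom (algebraMap B B'))) := IsOpenImmersion.of_isLocalization (F g₁)
  have w : u ≫ 𝟙 Z ≫ g = (kk.toImage ≫ p') ≫ 𝟙 _ := by
    rw [Category.id_comp, Category.comp_id, hfac', Category.assoc, ← hφ₀]
    show _ = Spec.map φ ≫ (ι ≫ polyToProj k n) ≫ CohB1.ProjSpace.toSpec n k
    rw [Category.assoc, polyToProj_toSpec, ← Spec.map_comp, ← Spec.map_comp, ← Spec.map_comp]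
    congr 1
    ext t
    change algebraMap B B' (algebraMap k B t) =
      IsLocalization.Away.map Pg B' F.toRingHom g₁ (algebraMap P Pg (algebraMap k P t))
    rw [IsLocalization.Away.map, IsLocalization.map_eq]
    exact congrArg _ (F.commutes t).symm
  obtain ⟨e₁⟩ := nonempty_loc_one (v := 𝟙 _) (j := 𝟙 Z) adj u adj' w
  obtain ⟨cc⟩ := nonempty_shriek_comp (f := Spec.map φ) (g := h) (jf := 𝟙 _) (pf := Spec.map φ)
    (Category.id_comp _) rfl hfac' adjφ adj₀ adj'
  let L : DCoh.DQCoh (Spec (CommRingCat.of Pg)) := (lq jP).obj ((DCoh.RpushQ p₀ h₀).rightAdjoint.obj (oQ _))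
  let eL : L.obj ≅ _ := eL₀
  have hω : Dual.IsDualizing Pg ((DerivedCategory.singleFunctor _ m).obj (ModuleCat.of Pg Pg)) :=
    Dlz27.isDualizing_of_iso (((DerivedCategory.singleFunctors (ModuleCat.{u} Pg)).shiftIso (-m) m 0 (by omega)).app _)
      (Dlz27.isDualizing_shift (isDualizing_away_poly k n g₁) (-m))
  obtain ⟨M, hM, ⟨eM⟩⟩ := isDualizing_of_shriek φ (RingHom.Finite.of_surjective φ.hom hs) adjφ hω eL
  refine ⟨CommRingCat.of B', u, inferInstance, ?_, M, hM, ⟨((lPRes u).app _).symm ≪≫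
    (lP u).mapIso ((DBC9.lPId Z).app _).symm ≪≫ e₁ ≪≫ cc.app ⟨oQ _, isBdd_oQ _⟩ ≪≫
    ((DBC9.lPId _).app _) ≪≫ eM⟩⟩
  have hq₀ : F g₁ ∉ q₀.asIdeal := hqg
  obtain ⟨y, hy⟩ : q₀ ∈ Set.range (PrimeSpectrum.comap (algebraMap B B')) := by
    rw [PrimeSpectrum.localization_away_comap_range B' (F g₁)]; exact hq₀
  exact ⟨y, (congrArg hU.fromSpec hy).trans (hU.fromSpec_primeIdealOf ⟨x, hxU⟩)⟩

end Groth.Agent.FMAdj9
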