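import Groth.Agent.Lib.FMAdj9.Basic
import Groth.Agent.Lib.BC8.Q
import Groth.Agent.Lib.BC8.Local

/-! Composition of kernel functors. -/

set_option autoImplicit false
set_option linter.unusedSectionVars false
set_option linter.style.haveILetI false
set_option backward.isDefEq.respectTransparency false
set_option backward.isDefEq.respectTransparency.types false
set_option maxHeartbeats 1600000

universe u

open CategoryTheory CategoryTheory.Limits MonoidalCategory AlgebraicGeometry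

attribute [local instance] HasDerivedCategory.standard

namespace Groth.Agent.FMAdj9

open DMon9

attribute [local instance] DBC9.hasRpush

variable {X Y X' Y' : Scheme.{u}}

/-- Flat squares are good. -/
theorem good_flat {f : X ⟶ Y} {g : Y' ⟶ Y} {f' : X' ⟶ Y'} {g' : X' ⟶ X} [QuasiCompact f] [QuasiSeparated f]
    (hsq : IsPullback g' f' f g) (hflat : Flat f ∨ Flat g) : DBC9.Good f f' g g' := by
  refine DBC9.good_main f g f' g' hsq fun U hU U' hU' hle V hV hVU => ?_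
  rcases hflat with h | h
  · exact DBC9.torIndep_of_flat_right _ _ (h.flat_appLE hU hV hVU)
  · exact DBC9.torIndep_of_flat_left _ _ (h.flat_appLE hU hU' hle)

variable {C : Type (u + 1)} [Category.{u + 1} C]

/-- Flat base change on a diagram of objects with quasi-coherent cohomology. -/
theorem nonempty_bcIso {f : X ⟶ Y} {g : Y' ⟶ Y} {f' : X' ⟶ Y'} {g' : X' ⟶ X} [QuasiCompact f] [QuasiSeparated f]
    (hsq : IsPullback g' f' f g) (hflat : Flat f ∨ Flat g) (H : C ⥤ DCoh.D X) (hH : ∀ c, DCoh.IsQCohD (H.obj c)) :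
    Nonempty (H ⋙ DCoh.Rpush f ⋙ lP g ≅ H ⋙ lP g' ⋙ DCoh.Rpush f') := by
  let σ : lP g ⋙ lP f' ≅ lP f ⋙ lP g' := DBC9.σcan hsq.w.symm
  haveI : ∀ c, IsIso ((Functor.whiskerLeft H (DBC9.bc (adjLP f) (adjLP f') σ.hom)).app c) := fun c =>
    good_flat hsq hflat (adjLP f) (adjLP f') σ (H.obj c) (hH c)
  haveI := NatIso.isIso_of_isIso_app (Functor.whiskerLeft H (DBC9.bc (adjLP f) (adjLP f') σ.hom))
  exact ⟨asIso (Functor.whiskerLeft H (DBC9.bc (adjLP f) (adjLP f') σ.hom))⟩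

/-- The projection map, naturally in the object pushed forward. -/
noncomputable def projL (f : X ⟶ Y) (A : DM Y) :
    DCoh.Rpush f ⋙ tRD A ⟶ tRD ((dPull f).obj A) ⋙ DCoh.Rpush f where
  app E := projApp (adjM f) (E : DM X) A
  naturality _ _ h := projApp_natural_left (adjM f) h A

/-- The projection formula on a diagram of objects with quasi-coherent cohomology. -/
theorem nonempty_projIso (f : X ⟶ Y) [QuasiCompact f] [QuasiSeparated f] (A : DM Y)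
    (hA : DCoh.IsQCohD (A : DCoh.D Y)) (H : C ⥤ DCoh.D X) (hH : ∀ c, DCoh.IsQCohD (H.obj c)) :
    Nonempty (H ⋙ DCoh.Rpush f ⋙ tRD A ≅ H ⋙ tRD ((dPull f).obj A) ⋙ DCoh.Rpush f) := by
  haveI : ∀ c, IsIso ((Functor.whiskerLeft H (projL f A)).app c) := fun c =>
    isIso_projT f (H.obj c : DM X) (hH c) A hA
  haveI := NatIso.isIso_of_isIso_app (Functor.whiskerLeft H (projL f A))
  exact ⟨asIso (Functor.whiskerLeft H (projL f A))⟩

/-- A pushed forward kernel. -/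
theorem nonempty_kernelPush (f : X ⟶ Y) [QuasiCompact f] [QuasiSeparated f] (E : DM X)
    (hE : DCoh.IsQCohD (E : DCoh.D X)) (H : C ⥤ DCoh.D Y) (hH : ∀ c, DCoh.IsQCohD (H.obj c)) :
    Nonempty (H ⋙ lP f ⋙ tRD E ⋙ DCoh.Rpush f ≅ H ⋙ tRD ((rM f).obj E)) := by
  haveI : ∀ c, IsIso ((Functor.whiskerLeft H (projT f E)).app c) := fun c =>
    isIso_projT f E hE (H.obj c) (hH c)
  haveI := NatIso.isIso_of_isIso_app (Functor.whiskerLeft H (projT f E))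
  obtain ⟨c₁⟩ := nonempty_comm E
  obtain ⟨c₂⟩ := nonempty_comm ((rM f).obj E)
  exact ⟨(Functor.isoWhiskerLeft H (Functor.isoWhiskerLeft (lP f) (Functor.isoWhiskerRight (c₁.symm :) (DCoh.Rpush f))) :) ≪≫
    ((asIso (Functor.whiskerLeft H (projT f E))).symm :) ≪≫ (Functor.isoWhiskerLeft H (c₂ :) :)⟩

/-- Composition of kernel functors. -/
theorem nonempty_comp_iso {Z P Q T R : Scheme.{u}} (p₁ : P ⟶ X) (q₁ : P ⟶ Y) (p₂ : Q ⟶ Y) (q₂ : Q ⟶ Z)
    (u' : T ⟶ P) (v : T ⟶ Q) (p : R ⟶ X) (q : R ⟶ Z) (w : T ⟶ R)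
    (hsq : IsPullback u' v q₁ p₂) (hflat : Flat q₁ ∨ Flat p₂)
    [QuasiCompact q₁] [QuasiSeparated q₁] [QuasiCompact v] [QuasiSeparated v] [QuasiCompact w] [QuasiSeparated w]
    (hp : w ≫ p = u' ≫ p₁) (hq : w ≫ q = v ≫ q₂)
    (k : DM P) (hk : DCoh.IsQCohD (k : DCoh.D P)) (m : DM Q) (hm : DCoh.IsQCohD (m : DCoh.D Q)) :
    Nonempty (ObjectProperty.ι (DCoh.IsQCohD (X := X)) ⋙ (lP p₁ ⋙ tRD k ⋙ DCoh.Rpush q₁) ⋙
        (lP p₂ ⋙ tRD m ⋙ DCoh.Rpush q₂) ≅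
      ObjectProperty.ι (DCoh.IsQCohD (X := X)) ⋙ lP p ⋙
        tRD ((rM w).obj ((dPull u').obj k ⊗ (dPull v).obj m)) ⋙ DCoh.Rpush q) := by
  let ι := ObjectProperty.ι (DCoh.IsQCohD (X := X))
  obtain ⟨e₁⟩ := nonempty_bcIso hsq hflat (ι ⋙ lP p₁ ⋙ tRD k)
    fun F => isQCohD_tRD hk (isQCohD_lP p₁ F.property)
  obtain ⟨e₂⟩ := nonempty_projIso v m hm ((ι ⋙ lP p₁ ⋙ tRD k) ⋙ lP u')
    fun F => isQCohD_lP u' (isQCohD_tRD hk (isQCohD_lP p₁ F.property))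
  let E : DM T := (dPull u').obj k ⊗ (dPull v).obj m
  have hE : DCoh.IsQCohD (E : DCoh.D T) := DMon9.isQCohD_tensor (isQCohD_lP u' hk) (isQCohD_lP v hm)
  obtain ⟨e₃⟩ := nonempty_kernelPush w E hE (ι ⋙ lP p) fun F => isQCohD_lP p F.property
  exact ⟨(Functor.isoWhiskerRight e₁ (tRD m ⋙ DCoh.Rpush q₂) :) ≪≫
    (Functor.isoWhiskerRight e₂ (DCoh.Rpush q₂) :) ≪≫
    (Functor.isoWhiskerLeft (ι ⋙ lP p₁) (Functor.isoWhiskerRight (tRDPull u' k)
      (tRD ((dPull v).obj m) ⋙ DCoh.Rpush v ⋙ DCoh.Rpush q₂)) :) ≪≫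
    (Functor.isoWhiskerLeft ι (Functor.isoWhiskerRight (lPComp u' p₁ rfl ≪≫ (lPComp w p hp).symm)
      (tRD ((dPull u').obj k) ⋙ tRD ((dPull v).obj m) ⋙ DCoh.Rpush v ⋙ DCoh.Rpush q₂)) :) ≪≫
    (Functor.isoWhiskerLeft (ι ⋙ lP p ⋙ lP w) (Functor.isoWhiskerRight (tRDComp _ _)
      (DCoh.Rpush v ⋙ DCoh.Rpush q₂)) :) ≪≫
    (Functor.isoWhiskerLeft (ι ⋙ lP p ⋙ lP w ⋙ tRD E) (rpushComp v q₂ rfl ≪≫ (rpushComp w q hq).symm) :) ≪≫
    (Functor.isoWhiskerRight e₃ (DCoh.Rpush q) :)⟩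

end Groth.Agent.FMAdj9
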