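import Groth.Agent.Lib.FMAdj9.Conv
import Groth.Agent.Lib.ModLimH13.Flat
import Groth.Agent.Lib.BC8.LciInvert
import Groth.Prelude.Def_SGA6

/-! Convolution of perfect kernels. -/

set_option autoImplicit false
set_option linter.unusedSectionVars false
set_option linter.style.haveILetI false
set_option backward.isDefEq.respectTransparency false
set_option backward.isDefEq.respectTransparency.types false
set_option maxHeartbeats 1600000

universe u

open CategoryTheory CategoryTheory.Limits MonoidalCategory AlgebraicGeometry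

attribute [local instance] HasDerivedCategory.standard

namespace Groth.Agent.FMAdj9

open DMon9 KFlat KFlat.Sch

attribute [local instance] DBC9.hasRpush

/-- Along a flat morphism derived pullback is computed termwise. -/
theorem nonempty_cxPull_iso {X Y : Scheme.{u}} (f : X ⟶ Y) [Flat f] [DCoh.HasLpull f]
    (K : CochainComplex Y.Modules ℤ) :
    Nonempty (DCoh.toD X ((FMK.cxPull f).obj K) ≅ (DCoh.Lpull f).obj (DCoh.toD Y K)) := by
  haveI : PreservesFiniteLimits (Scheme.Modules.pullback f) := ModLimH13.preservesFiniteLimits_pullback_of_flat f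
  haveI : PreservesFiniteColimits (Scheme.Modules.pullback f) := inferInstance
  haveI : (Scheme.Modules.pullback f).PreservesHomology := inferInstance
  haveI := quasiIso_resπ (cover Y) K
  haveI : QuasiIso ((pullCx f).map (resπ (cover Y) K)) :=
    inferInstanceAs (QuasiIso (((Scheme.Modules.pullback f).mapHomologicalComplex (ComplexShape.up ℤ)).map (resπ (cover Y) K)))
  haveI : IsIso ((pullCx f ⋙ DerivedCategory.Q).map ((resNatTrans (cover Y)).app K)) :=
    inferInstanceAs (IsIso (DerivedCategory.Q.map ((pullCx f).map (resπ (cover Y) K))))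
  haveI : IsIso ((lPα f).app K) := by
    simp only [lPα, NatTrans.comp_app, Functor.whiskerRight_app, Functor.whiskerLeft_app]
    infer_instance
  obtain ⟨l⟩ := nonempty_lpull_natIso_lP f
  exact ⟨(l.app _ ≪≫ asIso ((lPα f).app K)).symm⟩

/-- Tensor products of perfect objects are perfect. -/
theorem isPerfect_tensor_perf {X : Scheme.{u}} {A B : DM X} (hA : DCoh.IsPerfect (A : DCoh.D X))
    (hB : DCoh.IsPerfect (B : DCoh.D X)) : DCoh.IsPerfect ((A ⊗ B : DM X) : DCoh.D X) := by
  obtain ⟨K, ⟨e⟩⟩ := exists_qM (B : DCoh.D X)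
  let e' : (qM X).obj K ≅ B := e
  haveI := KFlat.Sch.hasLTensorCx K.obj
  let w : (tR K).obj (A : DCoh.D X) ≅ ((A ⊗ B : DM X) : DCoh.D X) := whiskerLeftIso A e'
  exact DGen9.isPerfect_of_iso (((theta K).app (A : DCoh.D X)).symm ≪≫ w)
    (isPerfect_lTensor K.obj K.property (DGen9.isPerfect_of_iso e.symm hB) A hA)

variable {S X Y Z : Scheme.{u}} (a : X ⟶ S) (b : Y ⟶ S) (c : Z ⟶ S)

/-- The triple product as a base change of the middle factor. -/
theorem isPullback_p13 :
    IsPullback (FMK.p12 a b c ≫ pullback.snd a b) (FMK.p13 a b c) b (pullback.fst a c ≫ a) := by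
  refine IsPullback.mk' ?_ (fun T φ φ' h₁ h₂ => ?_) fun T y r hy => ?_
  · rw [Category.assoc, FMK.p13_fst_assoc, pullback.condition]
  · have hY : φ ≫ FMK.p12 a b c ≫ pullback.snd a b = φ' ≫ FMK.p12 a b c ≫ pullback.snd a b := by
      simpa using h₁
    have hX : φ ≫ FMK.p12 a b c ≫ pullback.fst a b = φ' ≫ FMK.p12 a b c ≫ pullback.fst a b := by
      simpa using congrArg (· ≫ pullback.fst a c) h₂
    have hZ : φ ≫ FMK.p23 a b c ≫ pullback.snd b c = φ' ≫ FMK.p23 a b c ≫ pullback.snd b c := by
      simpa using congrArg (· ≫ pullback.snd a c) h₂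
    refine pullback.hom_ext (pullback.hom_ext ?_ ?_) (pullback.hom_ext ?_ ?_)
    · simpa using hX
    · simpa using hY
    · simpa [← pullback.condition] using hY
    · simpa using hZ
  · have h1 : (r ≫ pullback.fst a c) ≫ a = y ≫ b := by simpa using hy.symm
    have h2 : y ≫ b = (r ≫ pullback.snd a c) ≫ c := by
      rw [← h1, Category.assoc, pullback.condition, Category.assoc]
    refine ⟨pullback.lift (pullback.lift (r ≫ pullback.fst a c) y h1) (pullback.lift y (r ≫ pullback.snd a c) h2)
      (by rw [pullback.lift_snd, pullback.lift_fst]), ?_, ?_⟩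
    · simp
    · ext <;> simp

/-- The convolution of perfect kernels is perfect and computes the composite. -/
theorem conv_perfect_and_comp [IsNoetherian S] [IsProper a] [Flat a] [IsProper b] [Flat b] [IsProper c] [Flat c]
    (K : CochainComplex (pullback a b).Modules ℤ) (K' : CochainComplex (pullback b c).Modules ℤ)
    (hK : DCoh.IsPerfect (DCoh.toD _ K)) (hK' : DCoh.IsPerfect (DCoh.toD _ K'))
    [DCoh.HasLpull (pullback.fst a b)] [DCoh.HasLTensorCx K] [DCoh.HasRpush (pullback.snd a b)]
    [DCoh.HasLpull (pullback.fst b c)] [DCoh.HasLTensorCx K'] [DCoh.HasRpush (pullback.snd b c)]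
    [DCoh.HasLpull (FMK.p12 a b c)] [DCoh.HasLTensorCx ((FMK.cxPull (FMK.p23 a b c)).obj K')]
    [DCoh.HasRpush (FMK.p13 a b c)]
    [DCoh.HasLpull (pullback.fst a c)] [DCoh.HasRpush (pullback.snd a c)] :
    DCoh.IsPerfect (FMK.conv a b c K ((FMK.cxPull (FMK.p23 a b c)).obj K')) ∧
      ∀ (N : CochainComplex (pullback a c).Modules ℤ) [DCoh.HasLTensorCx N],
        Nonempty (DCoh.toD _ N ≅ FMK.conv a b c K ((FMK.cxPull (FMK.p23 a b c)).obj K')) →
        Nonempty (ObjectProperty.ι (SGA6.perfP X) ⋙ FMK.phi a c N ≅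
          ObjectProperty.ι (SGA6.perfP X) ⋙ FMK.phi a b K ⋙ FMK.phi b c K') := by
  haveI : LocallyOfFinitePresentation a := inferInstance
  haveI : LocallyOfFinitePresentation b := inferInstance
  haveI : IsProper (FMK.p13 a b c) := MorphismProperty.of_isPullback (isPullback_p13 a b c) inferInstance
  haveI : Flat (FMK.p13 a b c) := MorphismProperty.of_isPullback (isPullback_p13 a b c) inferInstance
  haveI : LocallyOfFinitePresentation (FMK.p13 a b c) :=
    MorphismProperty.of_isPullback (isPullback_p13 a b c) inferInstance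
  haveI : Flat (FMK.p23 a b c) := inferInstance
  haveI : DCoh.HasLpull (FMK.p23 a b c) := KFlat.Sch.hasLpull _
  obtain ⟨eL⟩ := nonempty_cxPull_iso (FMK.p23 a b c) K'
  refine ⟨?_, fun N _ hN => ?_⟩
  · obtain ⟨lu⟩ := nonempty_lpull_natIso_lP (FMK.p12 a b c)
    obtain ⟨lv⟩ := nonempty_lpull_natIso_lP (FMK.p23 a b c)
    obtain ⟨t⟩ := nonempty_ltIso ((FMK.cxPull (FMK.p23 a b c)).obj K')
    refine PerfPush9.isPerfect_rpush_flat (FMK.p13 a b c) _ ?_
    refine DGen9.isPerfect_of_iso (t.app _).symm ?_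
    exact isPerfect_tensor_perf
      (A := (((DCoh.Lpull (FMK.p12 a b c)).obj (DCoh.toD _ K)) : DM (FMK.T a b c)))
      (B := (DCoh.toD _ ((FMK.cxPull (FMK.p23 a b c)).obj K') : DM (FMK.T a b c)))
      (KFlat.Sch.isPerfect_lpull _ hK) (DGen9.isPerfect_of_iso eL.symm (KFlat.Sch.isPerfect_lpull _ hK'))
  · obtain ⟨e⟩ := nonempty_phi_conv a b c (Or.inl inferInstance) K K' (DGen9.isQCohD_of_isPerfect hK)
      (DGen9.isQCohD_of_isPerfect hK') ((FMK.cxPull (FMK.p23 a b c)).obj K') ⟨eL⟩ N hN
    have h : SGA6.perfP X ≤ DCoh.IsQCohD (X := X) := fun _ hM => DGen9.isQCohD_of_isPerfect hM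
    exact ⟨Functor.isoWhiskerLeft (ObjectProperty.ιOfLE h) e⟩

end Groth.Agent.FMAdj9
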