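import Groth.Agent.Lib.BC8.RelDual
import Groth.Agent.Lib.Dual8.Formula
import Groth.Agent.Lib.DMon9.LpullIso
import Groth.Agent.Lib.DMon9.LPExtra
import Groth.Agent.Lib.DGen9.PerfMain
import Groth.Prelude.Def_DualFM

/-! Kernel functors in the monoidal language. -/

set_option autoImplicit false
set_option linter.unusedSectionVars false
set_option linter.style.haveILetI false
set_option backward.isDefEq.respectTransparency false
set_option backward.isDefEq.respectTransparency.types false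
set_option maxHeartbeats 800000

universe u

open CategoryTheory CategoryTheory.Limits MonoidalCategory AlgebraicGeometry

attribute [local instance] HasDerivedCategory.standard

namespace Groth.Agent.FMAdj9

open DMon9 KFlat KFlat.Sch

attribute [local instance] DBC9.hasRpush

variable {X Y Z : Scheme.{u}}

/-- Tensoring on the right with an object. -/
noncomputable def tRD (A : DM X) : DCoh.D X ⥤ DCoh.D X := (tensorRight A : DM X ⥤ DM X)

/-- `- ⊗ A` depends functorially on `A`. -/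
noncomputable def tRDMap {A B : DM X} (e : A ≅ B) : tRD A ≅ tRD B :=
  (MonoidalCategory.tensoringRight (DM X)).mapIso e

/-- Tensoring twice. -/
noncomputable def tRDComp (A B : DM X) : tRD A ⋙ tRD B ≅ tRD (A ⊗ B : DM X) :=
  (NatIso.ofComponents (fun M : DM X => α_ M A B) (fun {M N} f => associator_naturality_left f A B) :
    (tensorRight A ⋙ tensorRight B : DM X ⥤ DM X) ≅ tensorRight (A ⊗ B))

theorem isQCohD_tRD {A : DM X} (hA : DCoh.IsQCohD (A : DCoh.D X)) {M : DCoh.D X} (hM : DCoh.IsQCohD M) :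
    DCoh.IsQCohD ((tRD A).obj M) :=
  DMon9.isQCohD_tensor (A := M) (B := A) hM hA

/-- Tensoring with a complex. -/
theorem nonempty_ltIso (K : CochainComplex X.Modules ℤ) [DCoh.HasLTensorCx K] :
    Nonempty (DCoh.LTensorCx K ≅ tRD (DCoh.toD X K : DM X)) := by
  obtain ⟨P, q, hP, hq⟩ := RHom.exists_kflat_res K
  haveI := hq
  haveI := KFlat.Sch.hasLTensorCx P
  haveI := RHom.isIso_ltMap q
  let P' : KF X := ⟨P, hP⟩
  haveI : DCoh.HasLTensorCx P'.obj := KFlat.Sch.hasLTensorCx _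
  let eP : (qM X).obj P' ≅ (DCoh.toD X K : DM X) := (asIso (DerivedCategory.Q.map q) :)
  exact ⟨(asIso (RHom.ltMap q)).symm ≪≫ (theta P').symm ≪≫ (tRDMap eP :)⟩

/-- Left and right tensoring agree. -/
theorem nonempty_comm (A : DM X) : Nonempty ((tensorLeft A : DM X ⥤ DM X) ≅ tensorRight A) := by
  obtain ⟨K, ⟨e⟩⟩ := exists_qM (A : DCoh.D X)
  haveI := KFlat.Sch.hasLTensorCx K.obj
  let e' : (qM X).obj K ≅ A := e
  obtain ⟨c⟩ := nonempty_commIso K
  exact ⟨(MonoidalCategory.tensoringLeft (DM X)).mapIso e'.symm ≪≫ (c :) ≪≫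
    (MonoidalCategory.tensoringRight (DM X)).mapIso e'⟩

/-- The adjunction of a dual pair. -/
noncomputable def tRDAdj (A D : DM X) [ExactPairing A D] : tRD A ⊣ tRD D :=
  tensorRightAdjunction A D

/-- Derived pullback commutes with tensor products. -/
noncomputable def tRDPull (f : X ⟶ Y) (A : DM Y) : tRD A ⋙ lP f ≅ lP f ⋙ tRD ((dPull f).obj A) :=
  NatIso.ofComponents (fun M => ((Functor.Monoidal.μIso (dPull f) (M : DM Y) A).symm :))
    fun {M N} g => by
      exact (Functor.OplaxMonoidal.δ_natural_left (dPull f) (X := (M : DM Y)) (Y := (N : DM Y)) g A).symm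

/-- Derived direct images compose. -/
noncomputable def rpushComp (f : X ⟶ Y) (g : Y ⟶ Z) {h : X ⟶ Z} (w : f ≫ g = h) :
    DCoh.Rpush f ⋙ DCoh.Rpush g ≅ DCoh.Rpush h :=
  (((adjLP g).comp (adjLP f)).ofNatIsoLeft (lPComp f g w)).rightAdjointUniq (adjLP h)

theorem lP_fullyFaithful_of_iso (σ : X ⟶ Y) [IsIso σ] : (lP σ).Full ∧ (lP σ).Faithful := by
  haveI : (DPerf.resD σ).Full := inferInstanceAs ((DGen9.resEquiv (asIso σ)).functor.Full)
  haveI : (DPerf.resD σ).Faithful := inferInstanceAs ((DGen9.resEquiv (asIso σ)).functor.Faithful)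
  exact ⟨Functor.Full.of_iso (lPRes σ).symm, Functor.Faithful.of_iso (lPRes σ).symm⟩

/-- Pull back along an isomorphism, then push forward. -/
noncomputable def pullPushIso (σ : X ⟶ Y) [IsIso σ] : lP σ ⋙ DCoh.Rpush σ ≅ 𝟭 (DCoh.D Y) :=
  haveI := (lP_fullyFaithful_of_iso σ).1
  haveI := (lP_fullyFaithful_of_iso σ).2
  haveI := (adjLP σ).unit_isIso_of_L_fully_faithful
  (asIso (adjLP σ).unit).symm

/-- A kernel functor in monoidal form. -/
theorem nonempty_phiIso {P : Scheme.{u}} (p : P ⟶ X) (q : P ⟶ Y) (K : CochainComplex P.Modules ℤ)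
    [DCoh.HasLpull p] [DCoh.HasLTensorCx K] :
    Nonempty (DCoh.Lpull p ⋙ DCoh.LTensorCx K ⋙ DCoh.Rpush q ≅
      lP p ⋙ tRD (DCoh.toD P K : DM P) ⋙ DCoh.Rpush q) := by
  obtain ⟨l⟩ := nonempty_lpull_natIso_lP p
  obtain ⟨t⟩ := nonempty_ltIso K
  exact ⟨Functor.isoWhiskerRight l _ ≪≫ Functor.isoWhiskerLeft _ (Functor.isoWhiskerRight t _)⟩

/-- A kernel transported along an isomorphism. -/
theorem nonempty_swap {P P' : Scheme.{u}} (σ : P' ⟶ P) [IsIso σ] (p : P ⟶ X) (q : P ⟶ Y)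
    {p' : P' ⟶ X} {q' : P' ⟶ Y} (hp : σ ≫ p = p') (hq : σ ≫ q = q')
    (K' : CochainComplex P'.Modules ℤ) [DCoh.HasLpull p'] [DCoh.HasLTensorCx K'] [DCoh.HasLpull σ]
    (E : DM P) (hK' : Nonempty (DCoh.toD P' K' ≅ (DCoh.Lpull σ).obj (E : DCoh.D P))) :
    Nonempty (DCoh.Lpull p' ⋙ DCoh.LTensorCx K' ⋙ DCoh.Rpush q' ≅ lP p ⋙ tRD E ⋙ DCoh.Rpush q) := by
  obtain ⟨a⟩ := nonempty_phiIso p' q' K'
  obtain ⟨eK⟩ := hK'
  obtain ⟨b⟩ := nonempty_lpull_natIso_lP σ
  let e : (DCoh.toD P' K' : DM P') ≅ (dPull σ).obj E := (eK ≪≫ b.app (E : DCoh.D P) :)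
  exact ⟨a ≪≫ Functor.isoWhiskerRight (lPComp σ p hp).symm _ ≪≫
    Functor.isoWhiskerLeft _ (Functor.isoWhiskerRight (tRDMap e) _ ≪≫
      Functor.isoWhiskerLeft _ (rpushComp σ q hq).symm) ≪≫
    Functor.associator _ _ _ ≪≫
    Functor.isoWhiskerLeft _ ((Functor.associator _ _ _).symm ≪≫
      Functor.isoWhiskerRight (tRDPull σ E).symm _ ≪≫ Functor.associator _ _ _ ≪≫
      Functor.isoWhiskerLeft _ ((Functor.associator _ _ _).symm ≪≫
        Functor.isoWhiskerRight (pullPushIso σ) _ ≪≫ Functor.leftUnitor _))⟩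

/-- Internal hom out of an object with a dual. -/
theorem nonempty_rhomIso (K : CochainComplex X.Modules ℤ) [DCoh.HasLTensorCx K] [DCoh.HasRSheafHom K]
    {k : DM X} (ek : (DCoh.toD X K : DM X) ≅ k) (D : DM X) [ExactPairing k D] : Nonempty (DCoh.RSheafHom K ≅ tRD D) := by
  obtain ⟨t⟩ := nonempty_ltIso K
  exact ⟨(DCoh.RSheafHomAdj K).rightAdjointUniq ((tRDAdj k D).ofNatIsoLeft (t ≪≫ tRDMap ek).symm)⟩

theorem rpushPreservesQCoh (f : X ⟶ Y) [QuasiCompact f] [QuasiSeparated f] {K : DCoh.D X}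
    (h : DCoh.IsQCohD K) : DCoh.IsQCohD ((DCoh.Rpush f).obj K) :=
  DPush.isQCohD_rpush f K h

end Groth.Agent.FMAdj9
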