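import Groth.Agent.Lib.FMAdj9.QCoh
import Groth.Agent.Lib.BC8.Loc
import Groth.Agent.Lib.BC8.Local
import Groth.Agent.Lib.BC8.LciInvert

/-! Left adjoints of kernel functors for an invertible relative dualizing complex. -/

set_option autoImplicit false
set_option linter.unusedSectionVars false
set_option linter.style.haveILetI false
set_option backward.isDefEq.respectTransparency false
set_option backward.isDefEq.respectTransparency.types false
set_option maxHeartbeats 1600000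

universe u

open CategoryTheory CategoryTheory.Limits MonoidalCategory AlgebraicGeometry

attribute [local instance] HasDerivedCategory.standard

namespace Groth.Agent.FMAdj9

open DMon9

attribute [local instance] DBC9.hasRpush

variable {X Y P : Scheme.{u}}

theorem isIso_eta_of_tensorRight_fullyFaithful {C : Type*} [Category* C] [MonoidalCategory C] (A D : C)
    [ExactPairing A D] [(tensorRight A).Full] [(tensorRight A).Faithful] : IsIso (η_ A D) := by
  haveI := (tensorRightAdjunction A D).unit_isIso_of_L_fully_faithful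
  have hI : IsIso ((tensorRightAdjunction A D).unit.app (𝟙_ C)) := inferInstance
  have h : ((tensorRightAdjunction A D).unit.app (𝟙_ C) : 𝟙_ C ⟶ (𝟙_ C ⊗ A) ⊗ D) =
      η_ A D ≫ ((λ_ A).inv ▷ D) := by
    simp [tensorRightAdjunction, tensorRightHomEquiv, unitors_equal]
  have h' : IsIso (η_ A D ≫ ((λ_ A).inv ▷ D)) := h ▸ hI
  haveI := h'
  exact IsIso.of_isIso_comp_right _ ((λ_ A).inv ▷ D)

theorem tensorRight_fullyFaithful_of_shift {X : Scheme.{u}} (A : DM X) (a : ℤ)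
    (e : (A : DCoh.D X) ≅ TwistBC9.oneD X a) :
    (tensorRight A : DM X ⥤ DM X).Full ∧ (tensorRight A : DM X ⥤ DM X).Faithful := by
  obtain ⟨t⟩ := BC8.nonempty_tenL_one a (A : DCoh.D X) e
  obtain ⟨c⟩ := nonempty_comm A
  let i : shiftFunctor (DCoh.D X) (-a) ≅ (tensorRight A : DM X ⥤ DM X) := t.symm ≪≫ (c :)
  haveI : (shiftFunctor (DCoh.D X) (-a)).Full := inferInstanceAs ((shiftEquiv (DCoh.D X) (-a)).functor.Full)
  haveI : (shiftFunctor (DCoh.D X) (-a)).Faithful := inferInstanceAs ((shiftEquiv (DCoh.D X) (-a)).functor.Faithful)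
  exact ⟨Functor.Full.of_iso i, Functor.Faithful.of_iso i⟩

/-- An invertible object and its inverse. -/
theorem isIso_eta_of_locShift {X : Scheme.{u}} (A D : DM X) [ExactPairing A D] (h : BC8.LocShift (A : DCoh.D X)) :
    IsIso (η_ A D) := by
  suffices IsIso (show ((𝟙_ (DM X) : DM X) : DCoh.D X) ⟶ ((A ⊗ D : DM X) : DCoh.D X) from η_ A D) from this
  refine RHom.isIso_of_cover _ fun x => ?_
  obtain ⟨V, n, hx, ⟨c⟩⟩ := BC8.isInvertibleD_of_locShift h x
  refine ⟨V, hx, (NatIso.isIso_map_iff (lPRes V.ι) _).1 ?_⟩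
  letI := Dual8.mapPairing (dPull V.ι) A D
  let e : (((dPull V.ι).obj A : DM (V : Scheme.{u})) : DCoh.D (V : Scheme.{u})) ≅ TwistBC9.oneD _ (-n) :=
    (lPRes V.ι).app (A : DCoh.D X) ≪≫ c ≪≫ BC8.shiftOne _ n
  haveI := (tensorRight_fullyFaithful_of_shift _ _ e).1
  haveI := (tensorRight_fullyFaithful_of_shift _ _ e).2
  have h₁ : IsIso (η_ ((dPull V.ι).obj A) ((dPull V.ι).obj D)) := isIso_eta_of_tensorRight_fullyFaithful _ _
  have h₂ : IsIso (Functor.LaxMonoidal.ε (dPull V.ι) ≫ (dPull V.ι).map (η_ A D) ≫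
      Functor.OplaxMonoidal.δ (dPull V.ι) A D) := h₁
  haveI := h₂
  haveI : IsIso ((dPull V.ι).map (η_ A D) ≫ Functor.OplaxMonoidal.δ (dPull V.ι) A D) :=
    IsIso.of_isIso_comp_left (Functor.LaxMonoidal.ε (dPull V.ι)) _
  exact IsIso.of_isIso_comp_right ((dPull V.ι).map (η_ A D)) (Functor.OplaxMonoidal.δ (dPull V.ι) A D)

/-- Tensoring with an invertible object and back. -/
noncomputable def tRDCancel (A D : DM X) [ExactPairing A D] [IsIso (η_ A D)] : tRD A ⋙ tRD D ≅ 𝟭 (DCoh.D X) :=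
  tRDComp A D ≪≫ tRDMap (asIso (η_ A D)).symm ≪≫ (MonoidalCategory.rightUnitorNatIso (DM X) :)

/-- Left adjoint of a kernel functor. -/
theorem nonempty_left_adjoint (p : P ⟶ X) (q : P ⟶ Y) [QuasiCompact p] [QuasiSeparated p] [QuasiCompact q]
    [QuasiSeparated q] (k D : DM P) [ExactPairing k D] (hk : DCoh.IsQCohD (k : DCoh.D P))
    (hD : DCoh.IsQCohD (D : DCoh.D P)) {ap : DCoh.DQCoh X ⥤ DCoh.DQCoh P}
    (hR : DCoh.RpushPreservesQCoh p) (adj : DCoh.RpushQ p hR ⊣ ap) (ω : DM P)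
    (hω : BC8.LocShift (ω : DCoh.D P))
    (e : ap ⋙ ObjectProperty.ι _ ≅ ObjectProperty.ι _ ⋙ lP p ⋙ tRD ω)
    {Φ : (qP X).FullSubcategory ⥤ (qP Y).FullSubcategory}
    (eΦ : Φ ⋙ ObjectProperty.ι _ ≅ ObjectProperty.ι _ ⋙ lP p ⋙ tRD k ⋙ DCoh.Rpush q)
    {Ψ : (qP Y).FullSubcategory ⥤ (qP X).FullSubcategory}
    (eΨ : Ψ ⋙ ObjectProperty.ι _ ≅ ObjectProperty.ι _ ⋙ lP q ⋙ tRD (D ⊗ ω : DM P) ⋙ DCoh.Rpush p) :
    Nonempty (Ψ ⊣ Φ) := by
  have hωp : DCoh.IsPerfect (ω : DCoh.D P) := BC8.isPerfect_of_locShift hω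
  obtain ⟨ω', hω'p, ⟨pω⟩⟩ := BC8.exists_pairing_left_perfect ω hωp
  haveI := pω
  haveI := isIso_eta_of_locShift ω ω' hω
  have hωq : DCoh.IsQCohD (ω : DCoh.D P) := DGen9.isQCohD_of_isPerfect hωp
  have hω'q : DCoh.IsQCohD (ω' : DCoh.D P) := DGen9.isQCohD_of_isPerfect hω'p
  obtain ⟨ck⟩ := nonempty_comm k
  obtain ⟨cD⟩ := nonempty_comm D
  let adjK : tRD D ⊣ tRD k := ((tensorLeftAdjunction k D).ofNatIsoLeft cD).ofNatIsoRight ck
  let adj₁ := restrictQ (adjLP q) (fun M hM => isQCohD_lP q hM) (fun M hM => rpushPreservesQCoh q hM)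
  let adj₂ := restrictQ adjK (fun M hM => isQCohD_tRD hD hM) (fun M hM => isQCohD_tRD hk hM)
  let adj₃ := restrictQ (tRDAdj ω ω') (fun M hM => isQCohD_tRD hωq hM) (fun M hM => isQCohD_tRD hω'q hM)
  let A := ((adj₁.comp adj₂).comp adj₃).comp adj
  haveI := (ObjectProperty.fullyFaithfulι (qP X)).full
  haveI := (ObjectProperty.fullyFaithfulι (qP X)).faithful
  haveI := (ObjectProperty.fullyFaithfulι (qP Y)).full
  haveI := (ObjectProperty.fullyFaithfulι (qP Y)).faithful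
  let l : ((liftQ (lP q) (fun M hM => isQCohD_lP q hM) ⋙ liftQ (tRD D) (fun M hM => isQCohD_tRD hD hM)) ⋙
      liftQ (tRD ω) (fun M hM => isQCohD_tRD hωq hM)) ⋙ DCoh.RpushQ p hR ≅ Ψ :=
    Functor.fullyFaithfulCancelRight (ObjectProperty.ι _)
      ((Functor.isoWhiskerLeft (ObjectProperty.ι _ ⋙ lP q) (Functor.isoWhiskerRight (tRDComp D ω) (DCoh.Rpush p)) :) ≪≫
        eΨ.symm)
  let r : ap ⋙ (liftQ (tRD ω') (fun M hM => isQCohD_tRD hω'q hM) ⋙
      (liftQ (tRD k) (fun M hM => isQCohD_tRD hk hM) ⋙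
        liftQ (DCoh.Rpush q) (fun M hM => rpushPreservesQCoh q hM))) ≅ Φ :=
    Functor.fullyFaithfulCancelRight (ObjectProperty.ι _)
      ((Functor.isoWhiskerRight e (tRD ω' ⋙ tRD k ⋙ DCoh.Rpush q) :) ≪≫
        (Functor.isoWhiskerLeft (ObjectProperty.ι _ ⋙ lP p)
          (Functor.isoWhiskerRight (tRDCancel ω ω') (tRD k ⋙ DCoh.Rpush q)) :) ≪≫ eΦ.symm)
  exact ⟨(A.ofNatIsoLeft l).ofNatIsoRight r⟩

/-- The relative dualizing complex of a flat base change. -/
theorem nonempty_dualizing_baseChange {S : Scheme.{u}} {f : X ⟶ S} {g : Y ⟶ S} {f' : P ⟶ Y} {g' : P ⟶ X}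
    (hsq : IsPullback g' f' f g) [IsProper f] [Flat f] [LocallyOfFinitePresentation f]
    [CompactSpace S] [QuasiSeparatedSpace S] [CompactSpace Y] [QuasiSeparatedSpace Y]
    {hf : DCoh.RpushPreservesQCoh f} {hf' : DCoh.RpushPreservesQCoh f'}
    {a : DCoh.DQCoh S ⥤ DCoh.DQCoh X} {a' : DCoh.DQCoh Y ⥤ DCoh.DQCoh P}
    (adj : DCoh.RpushQ f hf ⊣ a) (adj' : DCoh.RpushQ f' hf' ⊣ a')
    (O : DCoh.DQCoh S) (hO : O.obj ≅ DCoh.inD S (Coh.structureModule S)) :
    ∃ O' : DCoh.DQCoh Y, Nonempty (O'.obj ≅ DCoh.inD Y (Coh.structureModule Y)) ∧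
      Nonempty ((a'.obj O').obj ≅ (lP g').obj (a.obj O).obj) := by
  haveI : IsProper f' := MorphismProperty.of_isPullback hsq inferInstance
  haveI : CompactSpace X := QuasiCompact.compactSpace_of_compactSpace f
  haveI : QuasiSeparatedSpace X := quasiSeparatedSpace_of_quasiSeparated f
  haveI : CompactSpace P := QuasiCompact.compactSpace_of_compactSpace f'
  haveI : QuasiSeparatedSpace P := quasiSeparatedSpace_of_quasiSeparated f'
  haveI : QuasiCompact g := BC8.qc_of_qcqs g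
  haveI : QuasiSeparated g := BC8.qs_of_qcqs g
  haveI : QuasiCompact g' := BC8.qc_of_qcqs g'
  haveI : QuasiSeparated g' := BC8.qs_of_qcqs g'
  have hg : DCoh.RpushPreservesQCoh g := fun _ h => rpushPreservesQCoh g h
  have hg' : DCoh.RpushPreservesQCoh g' := fun _ h => rpushPreservesQCoh g' h
  have hcop := fun J => Dual8.preservesCoproducts adj (fun E hE => PerfPush9.isPerfect_rpush_flat f E hE) J
  obtain ⟨σ, hσm⟩ := BC8.exists_mult_sq hsq.w.symm
  have hgood := BC8.good_of_flat hsq (Or.inl inferInstance)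
  have hσ := BC8.isIso_bc_sigQ (hf := hf) (hf' := hf') hgood σ
  haveI := BC8.isIso_beta₀_flat adj adj' hsq (Or.inl inferInstance) hcop σ hσm hσ O
  haveI := BC8.isIso_hom (BC8.beta₀ adj adj' σ hσ O)
  let u : (O.obj : DM S) ≅ 𝟙_ (DM S) := BC8.unitIso hO
  let eO : (((dPull g).obj (O.obj : DM S) : DM Y) : DCoh.D Y) ≅ DCoh.inD Y (Coh.structureModule Y) :=
    ((dPull g).mapIso u ≪≫ (Functor.Monoidal.εIso (dPull g)).symm :) ≪≫
      ((DerivedCategory.singleFunctorIsoCompQ Y.Modules 0).app (Coh.structureModule Y)).symm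
  exact ⟨(BC8.lq g).obj O, ⟨eO⟩, ⟨(@asIso _ _ _ _ (BC8.beta₀ adj adj' σ hσ O).hom inferInstance).symm⟩⟩

end Groth.Agent.FMAdj9
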