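import Groth.Agent.Lib.FMAdj9.DlzField
import Groth.Agent.Lib.FMAdj9.Left
import Groth.Agent.Lib.BC8.CohShriek
import Groth.Agent.Lib.BC8.RigidShriek
import Mathlib.AlgebraicGeometry.Fiber

/-! The relative dualizing complex of a proper flat Gorenstein morphism is invertible. -/

set_option autoImplicit false
set_option linter.unusedSectionVars false
set_option linter.style.haveILetI false
set_option backward.isDefEq.respectTransparency false
set_option backward.isDefEq.respectTransparency.types false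
set_option maxHeartbeats 1600000

universe u

open CategoryTheory CategoryTheory.Limits AlgebraicGeometry

attribute [local instance] HasDerivedCategory.standard

namespace Groth.Agent.FMAdj9

open DMon9 BC8

/-- A local shift from an invertible object. -/
theorem locShift_of_isInvertibleD {X : Scheme.{u}}
    [∀ (U : Scheme.{u}) (j : U ⟶ X) [IsOpenImmersion j], PreservesFiniteLimits (Scheme.Modules.restrictFunctor j)]
    {K : DCoh.D X} (h : Dual3.IsInvertibleD K) : BC8.LocShift K := fun x => by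
  obtain ⟨U, n, hxU, ⟨e⟩⟩ := h x
  obtain ⟨s⟩ := BC8.nonempty_shiftOne' (U : Scheme.{u}) 0 n
  exact ⟨(U : Scheme.{u}), U.ι, inferInstance, 0 - n, ⟨⟨x, hxU⟩, rfl⟩, ⟨(lPRes U.ι).app K ≪≫ e ≪≫ s⟩⟩

/-- A proper Gorenstein scheme over a field. -/
theorem locShift_field {k : Type u} [Field k] {Z : Scheme.{u}} (g : Z ⟶ Spec (CommRingCat.of k)) [IsProper g]
    (hZ : Dual3.IsGorenstein Z) [DCoh.HasRpush g] {hg : DCoh.RpushPreservesQCoh g}
    {a : DCoh.DQCoh (Spec (CommRingCat.of k)) ⥤ DCoh.DQCoh Z} (adj : DCoh.RpushQ g hg ⊣ a) :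
    BC8.LocShift (a.obj (BC8.oQ _)).obj := by
  haveI := hZ.1
  haveI : ∀ (R : CommRingCat.{u}), PreservesFiniteLimits (tilde.functor R) := fun _ => M1.tilde_preservesFiniteLimits
  haveI : ∀ (U V : Scheme.{u}) (j : U ⟶ V) [IsOpenImmersion j],
      PreservesFiniteLimits (Scheme.Modules.restrictFunctor j) := fun _ _ _ => inferInstance
  exact locShift_of_isInvertibleD (DlzSch27.isInvertibleD_of_isGorenstein
    (DlzSch27.isDualizingSch_of_cover fun x => exists_dualizing_chart g adj x) hZ)

variable {S X : Scheme.{u}}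

theorem isGorenstein_fibre [IsLocallyNoetherian X] (f : X ⟶ S) [LocallyOfFiniteType f]
    (hG : Dual3.IsGorensteinMor f) (y : S) : Dual3.IsGorenstein (f.fiber y) := by
  haveI : LocallyOfFiniteType (f.fiberToSpecResidueField y) :=
    MorphismProperty.of_isPullback (IsPullback.of_hasPullback f (S.fromSpecResidueField y)) ‹LocallyOfFiniteType f›
  refine ⟨LocallyOfFiniteType.isLocallyNoetherian (f.fiberToSpecResidueField y), fun z => ?_⟩
  have hy : f (f.fiberι y z) = y := by
    have : f.fiberι y z ∈ Set.range (f.fiberι y) := ⟨z, rfl⟩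
    rwa [f.range_fiberι] at this
  obtain ⟨x, hx⟩ : ∃ x, x = f.fiberι y z := ⟨_, rfl⟩
  rw [← hx] at hy
  subst hy
  have hz : z = f.asFiber x :=
    (f.fiberι (f x)).isEmbedding.injective (hx.symm.trans (f.fiberι_asFiber x).symm)
  rw [hz]
  exact (hG x).2

/-- The relative dualizing complex of a proper flat Gorenstein morphism is locally a shift of `O`. -/
theorem locShift_gorenstein [IsNoetherian S] (f : X ⟶ S) [IsProper f] [Flat f] (hG : Dual3.IsGorensteinMor f)
    [DCoh.HasRpush f] {hf : DCoh.RpushPreservesQCoh f} {a : DCoh.DQCoh S ⥤ DCoh.DQCoh X}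
    (adj : DCoh.RpushQ f hf ⊣ a) (O : DCoh.DQCoh S) (hO : O.obj ≅ DCoh.inD S (Coh.structureModule S)) :
    BC8.LocShift (a.obj O).obj := by
  haveI : IsLocallyNoetherian X := LocallyOfFiniteType.isLocallyNoetherian f
  haveI : LocallyOfFinitePresentation f := inferInstance
  refine BC8.locShift_of_iso ((ObjectProperty.ι _).mapIso (a.mapIso (BC8.oIso hO))).symm ?_
  obtain ⟨N, hN⟩ := BC8.exists_isGE_a adj
  haveI : (BC8.oQ S).obj.IsGE 0 := inferInstanceAs
    (((DerivedCategory.singleFunctor S.Modules 0).obj (Coh.structureModule S)).IsGE 0)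
  haveI : (a.obj (BC8.oQ S)).obj.IsGE (0 - (N : ℤ)) := hN (BC8.oQ S) 0 inferInstance
  have hpc := (RelT.relPerf_of_iso f ((DBC9.lPId X).app _)
    (BC8.relPerf_shriek f f (𝟙 X) (Category.id_comp _) adj)).1
  refine locShift_of_points (K := (a.obj (BC8.oQ S)).obj) (0 - (N : ℤ)) hpc fun k _ z => ?_
  let pt : Spec (CommRingCat.of k) := IsLocalRing.closedPoint k
  let y : S := (z ≫ f) pt
  let t : Spec (CommRingCat.of k) ⟶ f.fiber y :=
    pullback.lift z (Spec.map (S.descResidueField (Scheme.stalkClosedPointTo (z ≫ f))))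
      (Scheme.descResidueField_stalkClosedPointTo_fromSpecResidueField k S (z ≫ f)).symm
  have ht : t ≫ f.fiberι y = z := pullback.lift_fst _ _ _
  let g' := f.fiberToSpecResidueField y
  haveI : IsProper g' := MorphismProperty.of_isPullback (IsPullback.of_hasPullback f (S.fromSpecResidueField y)) ‹IsProper f›
  haveI := DBC9.hasRpush g'
  haveI : CompactSpace (Spec (S.residueField y) : Scheme.{u}) := inferInstance
  haveI : CompactSpace (f.fiber y : Scheme.{u}) := QuasiCompact.compactSpace_of_compactSpace g'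
  haveI : QuasiSeparatedSpace (f.fiber y : Scheme.{u}) := quasiSeparatedSpace_of_quasiSeparated g'
  let hg' := BC8.rpushPreserves g'
  haveI := BC8.isLeftAdjoint_rpushQ g' hg'
  let adj' := Adjunction.ofIsLeftAdjoint (DCoh.RpushQ g' hg')
  obtain ⟨O', ⟨eO'⟩, ⟨bc⟩⟩ := nonempty_dualizing_baseChange
    (IsPullback.of_hasPullback f (S.fromSpecResidueField y)) adj adj' (BC8.oQ S) (Iso.refl _)
  have h1 := locShift_field (k := S.residueField y) g' (isGorenstein_fibre f hG y) adj'
  have h2 : BC8.LocShift ((lP (f.fiberι y)).obj (a.obj (BC8.oQ S)).obj) := BC8.locShift_of_iso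
    ((ObjectProperty.ι _).mapIso (((DCoh.RpushQ g' hg').rightAdjoint).mapIso (BC8.oIso eO')).symm ≪≫ bc) h1
  haveI : Unique (Spec (CommRingCat.of k) : Scheme.{u}) := inferInstanceAs (Unique (PrimeSpectrum k))
  obtain ⟨n, ⟨e⟩⟩ := exists_shift_at_point h2 t
  exact ⟨n, ⟨((lPComp t (f.fiberι y) ht).app _).symm ≪≫ e⟩⟩

end Groth.Agent.FMAdj9
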