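import Groth.Agent.Lib.FMAdj9.Left
import Groth.Agent.Lib.BC8.RightAdj
import Groth.Prelude.Def_SGA6

/-! The adjunctions of kernel functors with a relative dualizing twist. -/

set_option autoImplicit false
set_option linter.unusedSectionVars false
set_option linter.style.haveILetI false
set_option backward.isDefEq.respectTransparency false
set_option backward.isDefEq.respectTransparency.types false
set_option maxHeartbeats 1600000

universe u

open CategoryTheory CategoryTheory.Limits MonoidalCategory AlgebraicGeometry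

attribute [local instance] HasDerivedCategory.standard

namespace Groth.Agent.FMAdj9

open DMon9

attribute [local instance] DBC9.hasRpush

variable {S X Y P : Scheme.{u}}

/-- The formula for the twisted inverse image of a proper flat morphism. -/
theorem nonempty_formula {p : P ⟶ X} [IsProper p] [Flat p] [LocallyOfFinitePresentation p] [CompactSpace X]
    [QuasiSeparatedSpace X] [CompactSpace P] [QuasiSeparatedSpace P] {hp : DCoh.RpushPreservesQCoh p}
    {ap : DCoh.DQCoh X ⥤ DCoh.DQCoh P} (adj : DCoh.RpushQ p hp ⊣ ap) (O : DCoh.DQCoh X)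
    (hO : Nonempty (O.obj ≅ DCoh.inD X (Coh.structureModule X))) (ω : DM P)
    (eω : (ω : DCoh.D P) ≅ (ap.obj O).obj) :
    Nonempty (ap ⋙ ObjectProperty.ι _ ≅ ObjectProperty.ι _ ⋙ lP p ⋙ tRD ω) := by
  haveI : DCoh.HasLpull p := KFlat.Sch.hasLpull p
  obtain ⟨F, ⟨eF⟩⟩ : ∃ F : CochainComplex P.Modules ℤ, Nonempty (DCoh.toD P F ≅ (ω : DCoh.D P)) :=
    ⟨_, ⟨DerivedCategory.Q.objObjPreimageIso _⟩⟩
  haveI := KFlat.Sch.hasLTensorCx F
  obtain ⟨e₀⟩ := Dual8.nonempty_formula' adj O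
    (fun J => Dual8.preservesCoproducts adj (fun E hE => PerfPush9.isPerfect_rpush_flat p E hE) J) hO F
    ⟨eF ≪≫ eω⟩
  obtain ⟨l⟩ := nonempty_lpull_natIso_lP p
  obtain ⟨t⟩ := nonempty_ltIso F
  exact ⟨e₀ ≪≫ Functor.isoWhiskerLeft _ (Functor.isoWhiskerRight l _ ≪≫ Functor.isoWhiskerLeft _
    (t ≪≫ tRDMap (show (DCoh.toD P F : DM P) ≅ ω from eF)))⟩

/-- The dual kernel twisted by a complex. -/
theorem nonempty_twist (K W : CochainComplex P.Modules ℤ) [DCoh.HasLTensorCx K] [DCoh.HasRSheafHom K]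
    [DCoh.HasLTensorCx W] {k : DM P} (ek : (DCoh.toD P K : DM P) ≅ k) (D : DM P) [ExactPairing k D] {ω : DM P}
    (eW : (DCoh.toD P W : DM P) ≅ ω) :
    Nonempty ((DCoh.LTensorCx W).obj ((DCoh.RSheafHom K).obj (DCoh.inD P (Coh.structureModule P))) ≅
      ((D ⊗ ω : DM P) : DCoh.D P)) := by
  obtain ⟨t⟩ := nonempty_ltIso W
  obtain ⟨r⟩ := nonempty_rhomIso K ek D
  let O : DM P := DCoh.inD P (Coh.structureModule P)
  let u : O ≅ 𝟙_ (DM P) :=
    ((DerivedCategory.singleFunctorIsoCompQ P.Modules 0).app (Coh.structureModule P) :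
      DCoh.inD P (Coh.structureModule P) ≅ (qK P).obj (𝟙_ (KF P)))
  let e' : O ⊗ D ≅ D := whiskerRightIso u D ≪≫ λ_ D
  let e : (DCoh.RSheafHom K).obj (DCoh.inD P (Coh.structureModule P)) ≅ (D : DCoh.D P) :=
    r.app _ ≪≫ e'
  exact ⟨(t ≪≫ tRDMap eW).app _ ≪≫ (tRD ω).mapIso e⟩

theorem isPerfect_twist {ω D : DM P} (hω : BC8.LocShift (ω : DCoh.D P)) (hD : DCoh.IsPerfect (D : DCoh.D P)) :
    DCoh.IsPerfect ((D ⊗ ω : DM P) : DCoh.D P) := by
  obtain ⟨c⟩ := nonempty_comm ω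
  exact DGen9.isPerfect_of_iso (c.app D :) (BC8.isPerfect_ten_locShift hω hD)

/-- An adjunction restricts to perfect objects. -/
theorem nonempty_adj_perf {F : DCoh.D X ⥤ DCoh.D Y} {G : DCoh.D Y ⥤ DCoh.D X}
    {hF : ∀ M, DCoh.IsQCohD M → DCoh.IsQCohD (F.obj M)} {hG : ∀ M, DCoh.IsQCohD M → DCoh.IsQCohD (G.obj M)}
    (adj : liftQ F hF ⊣ liftQ G hG) (hF' : ∀ M : DCoh.D X, SGA6.perfP X M → SGA6.perfP Y (F.obj M))
    (hG' : ∀ M : DCoh.D Y, SGA6.perfP Y M → SGA6.perfP X (G.obj M)) :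
    Nonempty (ObjectProperty.lift (SGA6.perfP Y) (ObjectProperty.ι (SGA6.perfP X) ⋙ F) (fun M => hF' M.obj M.property) ⊣
      ObjectProperty.lift (SGA6.perfP X) (ObjectProperty.ι (SGA6.perfP Y) ⋙ G) (fun M => hG' M.obj M.property)) := by
  have hX : SGA6.perfP X ≤ qP X := fun _ h => DGen9.isQCohD_of_isPerfect h
  have hY : SGA6.perfP Y ≤ qP Y := fun _ h => DGen9.isQCohD_of_isPerfect h
  exact ⟨adj.restrictFullyFaithful (iC := ObjectProperty.ιOfLE hX) (iD := ObjectProperty.ιOfLE hY)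
    (ObjectProperty.fullyFaithfulιOfLE hX) (ObjectProperty.fullyFaithfulιOfLE hY)
    (NatIso.ofComponents (fun M => ObjectProperty.isoMk _ (Iso.refl _)))
    (NatIso.ofComponents (fun M => ObjectProperty.isoMk _ (Iso.refl _)))⟩

variable (a : X ⟶ S) (b : Y ⟶ S)

/-- The left adjoint with the twist by the relative dualizing complex of the target. -/
theorem nonempty_left_rel [IsNoetherian S] [CompactSpace X] [QuasiSeparatedSpace X] [IsProper b] [Flat b]
    (K : CochainComplex (Limits.pullback a b).Modules ℤ) (hK : DCoh.IsPerfect (DCoh.toD _ K))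
    [DCoh.HasLpull (Limits.pullback.fst a b)] [DCoh.HasLTensorCx K] [DCoh.HasRpush (Limits.pullback.snd a b)]
    [DCoh.HasRSheafHom K]
    [DCoh.HasRpush b] (hRb : DCoh.RpushPreservesQCoh b) [DCoh.HasShriek b hRb]
    (OS : DCoh.DQCoh S) (hOS : OS.obj ≅ DCoh.inD S (Coh.structureModule S))
    (hloc : BC8.LocShift (DCoh.dualizingCx b hRb OS))
    [DCoh.HasLpull (Limits.pullback.snd a b)]
    (W : CochainComplex (Limits.pullback a b).Modules ℤ) [DCoh.HasLTensorCx W]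
    (hW : Nonempty (DCoh.toD _ W ≅ (DCoh.Lpull (Limits.pullback.snd a b)).obj (DCoh.dualizingCx b hRb OS)))
    [DCoh.HasLpull (Limits.pullbackSymmetry b a).hom]
    (K' : CochainComplex (Limits.pullback b a).Modules ℤ)
    (hK' : Nonempty (DCoh.toD _ K' ≅ (DCoh.Lpull (Limits.pullbackSymmetry b a).hom).obj
      ((DCoh.LTensorCx W).obj ((DCoh.RSheafHom K).obj (DCoh.inD _ (Coh.structureModule (Limits.pullback a b)))))))
    [DCoh.HasLpull (Limits.pullback.fst b a)] [DCoh.HasLTensorCx K'] [DCoh.HasRpush (Limits.pullback.snd b a)] :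
    DCoh.IsPerfect (DCoh.toD _ K') ∧
    ∃ (h : ∀ M : DCoh.D X, DCoh.IsQCohD M → DCoh.IsQCohD ((FMK.phi a b K).obj M))
      (h' : ∀ N : DCoh.D Y, DCoh.IsQCohD N → DCoh.IsQCohD ((FMK.phi b a K').obj N)),
      Nonempty (liftQ (FMK.phi b a K') h' ⊣ liftQ (FMK.phi a b K) h) := by
  haveI : LocallyOfFinitePresentation b := inferInstance
  haveI : CompactSpace Y := QuasiCompact.compactSpace_of_compactSpace b
  haveI : QuasiSeparatedSpace Y := quasiSeparatedSpace_of_quasiSeparated b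
  let p := Limits.pullback.fst a b
  let q := Limits.pullback.snd a b
  haveI : CompactSpace ↥(Limits.pullback a b) := QuasiCompact.compactSpace_of_compactSpace p
  haveI : QuasiSeparatedSpace ↥(Limits.pullback a b) := quasiSeparatedSpace_of_quasiSeparated p
  haveI : QuasiCompact q := BC8.qc_of_qcqs q
  haveI : QuasiSeparated q := BC8.qs_of_qcqs q
  have hp : DCoh.RpushPreservesQCoh p := fun _ h => rpushPreservesQCoh p h
  haveI := BC8.isLeftAdjoint_rpushQ p hp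
  let adjp := Adjunction.ofIsLeftAdjoint (DCoh.RpushQ p hp)
  obtain ⟨O', ⟨eO'⟩, ⟨eω⟩⟩ := nonempty_dualizing_baseChange (IsPullback.of_hasPullback a b).flip
    (DCoh.shriekAdj b hRb) adjp OS hOS
  obtain ⟨l⟩ := nonempty_lpull_natIso_lP q
  let ω : DM (Limits.pullback a b) := (lP q).obj (DCoh.dualizingCx b hRb OS)
  have hω : BC8.LocShift (ω : DCoh.D _) := BC8.locShift_lP q hloc
  obtain ⟨e⟩ := nonempty_formula adjp O' ⟨eO'⟩ ω eω.symm
  obtain ⟨D, hDp, ⟨pk⟩⟩ := BC8.exists_pairing_left_perfect (DCoh.toD _ K : DM _) hK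
  haveI := pk
  obtain ⟨eW⟩ := hW
  obtain ⟨tw⟩ := nonempty_twist K W (k := (DCoh.toD _ K : DM _)) (Iso.refl _) D (ω := ω) (eW ≪≫ l.app _ :)
  obtain ⟨eK'⟩ := hK'
  obtain ⟨eΦ⟩ := nonempty_phiIso p q K
  obtain ⟨eΨ⟩ := nonempty_swap (Limits.pullbackSymmetry b a).hom q p
    (Limits.pullbackSymmetry_hom_comp_snd b a) (Limits.pullbackSymmetry_hom_comp_fst b a) K' (D ⊗ ω : DM _)
    ⟨eK' ≪≫ (DCoh.Lpull _).mapIso tw⟩
  have hD : DCoh.IsQCohD (D : DCoh.D _) := DGen9.isQCohD_of_isPerfect hDp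
  have hωq : DCoh.IsQCohD (ω : DCoh.D _) := DGen9.isQCohD_of_isPerfect (BC8.isPerfect_of_locShift hω)
  have hkq := DGen9.isQCohD_of_isPerfect hK
  have h : ∀ M : DCoh.D X, DCoh.IsQCohD M → DCoh.IsQCohD ((FMK.phi a b K).obj M) := fun M hM =>
    DQC.isQCohD_of_iso (eΦ.app M).symm (rpushPreservesQCoh q (isQCohD_tRD hkq (isQCohD_lP p hM)))
  have h' : ∀ N : DCoh.D Y, DCoh.IsQCohD N → DCoh.IsQCohD ((FMK.phi b a K').obj N) := fun N hN =>
    DQC.isQCohD_of_iso (eΨ.app N).symm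
      (rpushPreservesQCoh p (isQCohD_tRD (DMon9.isQCohD_tensor hD hωq) (isQCohD_lP q hN)))
  refine ⟨DGen9.isPerfect_of_iso (eK' ≪≫ (DCoh.Lpull _).mapIso tw).symm
      (KFlat.Sch.isPerfect_lpull _ (isPerfect_twist hω hDp)), h, h', ?_⟩
  exact nonempty_left_adjoint p q _ D hkq hD hp adjp ω hω e
    (ObjectProperty.liftCompιIso _ _ _ ≪≫ Functor.isoWhiskerLeft _ eΦ)
    (ObjectProperty.liftCompιIso _ _ _ ≪≫ Functor.isoWhiskerLeft _ eΨ)

/-- The right adjoint with the twist by the relative dualizing complex of the source. -/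
theorem nonempty_right_rel [IsNoetherian S] [CompactSpace Y] [QuasiSeparatedSpace Y] [IsProper a] [Flat a]
    (K : CochainComplex (Limits.pullback a b).Modules ℤ) (hK : DCoh.IsPerfect (DCoh.toD _ K))
    [DCoh.HasLpull (Limits.pullback.fst a b)] [DCoh.HasLTensorCx K] [DCoh.HasRpush (Limits.pullback.snd a b)]
    [DCoh.HasRSheafHom K]
    [DCoh.HasRpush a] (hRa : DCoh.RpushPreservesQCoh a) [DCoh.HasShriek a hRa]
    (OS : DCoh.DQCoh S) (hOS : OS.obj ≅ DCoh.inD S (Coh.structureModule S))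
    (hloc : BC8.LocShift (DCoh.dualizingCx a hRa OS))
    (W : CochainComplex (Limits.pullback a b).Modules ℤ) [DCoh.HasLTensorCx W]
    (hW : Nonempty (DCoh.toD _ W ≅ (DCoh.Lpull (Limits.pullback.fst a b)).obj (DCoh.dualizingCx a hRa OS)))
    [DCoh.HasLpull (Limits.pullbackSymmetry b a).hom]
    (K' : CochainComplex (Limits.pullback b a).Modules ℤ)
    (hK' : Nonempty (DCoh.toD _ K' ≅ (DCoh.Lpull (Limits.pullbackSymmetry b a).hom).obj
      ((DCoh.LTensorCx W).obj ((DCoh.RSheafHom K).obj (DCoh.inD _ (Coh.structureModule (Limits.pullback a b)))))))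
    [DCoh.HasLpull (Limits.pullback.fst b a)] [DCoh.HasLTensorCx K'] [DCoh.HasRpush (Limits.pullback.snd b a)] :
    DCoh.IsPerfect (DCoh.toD _ K') ∧
    ∃ (h : ∀ M : DCoh.D X, DCoh.IsQCohD M → DCoh.IsQCohD ((FMK.phi a b K).obj M))
      (h' : ∀ N : DCoh.D Y, DCoh.IsQCohD N → DCoh.IsQCohD ((FMK.phi b a K').obj N)),
      Nonempty (liftQ (FMK.phi a b K) h ⊣ liftQ (FMK.phi b a K') h') := by
  haveI : LocallyOfFinitePresentation a := inferInstance
  haveI : CompactSpace X := QuasiCompact.compactSpace_of_compactSpace a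
  haveI : QuasiSeparatedSpace X := quasiSeparatedSpace_of_quasiSeparated a
  let p := Limits.pullback.fst a b
  let q := Limits.pullback.snd a b
  haveI : CompactSpace ↥(Limits.pullback a b) := QuasiCompact.compactSpace_of_compactSpace q
  haveI : QuasiSeparatedSpace ↥(Limits.pullback a b) := quasiSeparatedSpace_of_quasiSeparated q
  haveI : QuasiCompact p := BC8.qc_of_qcqs p
  haveI : QuasiSeparated p := BC8.qs_of_qcqs p
  have hq : DCoh.RpushPreservesQCoh q := fun _ h => rpushPreservesQCoh q h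
  haveI := BC8.isLeftAdjoint_rpushQ q hq
  let adjq := Adjunction.ofIsLeftAdjoint (DCoh.RpushQ q hq)
  obtain ⟨O', ⟨eO'⟩, ⟨eω⟩⟩ := nonempty_dualizing_baseChange (IsPullback.of_hasPullback a b)
    (DCoh.shriekAdj a hRa) adjq OS hOS
  obtain ⟨l⟩ := nonempty_lpull_natIso_lP p
  let ω : DM (Limits.pullback a b) := (lP p).obj (DCoh.dualizingCx a hRa OS)
  have hω : BC8.LocShift (ω : DCoh.D _) := BC8.locShift_lP p hloc
  obtain ⟨e⟩ := nonempty_formula adjq O' ⟨eO'⟩ ω eω.symm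
  obtain ⟨D, hDp, ⟨pk⟩⟩ := BC8.exists_pairing_left_perfect (DCoh.toD _ K : DM _) hK
  haveI := pk
  obtain ⟨eW⟩ := hW
  obtain ⟨tw⟩ := nonempty_twist K W (k := (DCoh.toD _ K : DM _)) (Iso.refl _) D (ω := ω) (eW ≪≫ l.app _ :)
  obtain ⟨cω⟩ := nonempty_comm ω
  obtain ⟨eK'⟩ := hK'
  obtain ⟨eΦ⟩ := nonempty_phiIso p q K
  obtain ⟨eΨ⟩ := nonempty_swap (Limits.pullbackSymmetry b a).hom q p
    (Limits.pullbackSymmetry_hom_comp_snd b a) (Limits.pullbackSymmetry_hom_comp_fst b a) K' (ω ⊗ D : DM _)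
    ⟨eK' ≪≫ (DCoh.Lpull _).mapIso (tw ≪≫ ((cω.app D).symm :))⟩
  have hD : DCoh.IsQCohD (D : DCoh.D _) := DGen9.isQCohD_of_isPerfect hDp
  have hωq : DCoh.IsQCohD (ω : DCoh.D _) := DGen9.isQCohD_of_isPerfect (BC8.isPerfect_of_locShift hω)
  have hkq := DGen9.isQCohD_of_isPerfect hK
  have h : ∀ M : DCoh.D X, DCoh.IsQCohD M → DCoh.IsQCohD ((FMK.phi a b K).obj M) := fun M hM =>
    DQC.isQCohD_of_iso (eΦ.app M).symm (rpushPreservesQCoh q (isQCohD_tRD hkq (isQCohD_lP p hM)))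
  have h' : ∀ N : DCoh.D Y, DCoh.IsQCohD N → DCoh.IsQCohD ((FMK.phi b a K').obj N) := fun N hN =>
    DQC.isQCohD_of_iso (eΨ.app N).symm
      (rpushPreservesQCoh p (isQCohD_tRD (DMon9.isQCohD_tensor hωq hD) (isQCohD_lP q hN)))
  refine ⟨DGen9.isPerfect_of_iso (eK' ≪≫ (DCoh.Lpull _).mapIso tw).symm
      (KFlat.Sch.isPerfect_lpull _ (isPerfect_twist hω hDp)), h, h', ?_⟩
  exact nonempty_right_adjoint p q _ D hkq hD hq adjq ω e
    (ObjectProperty.liftCompιIso _ _ _ ≪≫ Functor.isoWhiskerLeft _ eΦ)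
    (ObjectProperty.liftCompιIso _ _ _ ≪≫ Functor.isoWhiskerLeft _ eΨ)

end Groth.Agent.FMAdj9
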