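import Groth.Agent.Lib.FMAdj9.Comp
import Groth.Prelude.Def_DualFM

/-! Base change of kernel functors. -/

set_option autoImplicit false
set_option linter.unusedSectionVars false
set_option linter.style.haveILetI false
set_option backward.isDefEq.respectTransparency false
set_option backward.isDefEq.respectTransparency.types false
set_option maxHeartbeats 1600000

universe u

open CategoryTheory CategoryTheory.Limits MonoidalCategory AlgebraicGeometry

attribute [local instance] HasDerivedCategory.standard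

namespace Groth.Agent.FMAdj9

open DMon9

attribute [local instance] DBC9.hasRpush

variable {S S' X Y : Scheme.{u}} (a : X ⟶ S) (b : Y ⟶ S) (g : S' ⟶ S)

/-- The map of double products induced by base change. -/
noncomputable abbrev bcMap₂ : pullback (pullback.snd a g) (pullback.snd b g) ⟶ pullback a b :=
  pullback.map (pullback.snd a g) (pullback.snd b g) a b (pullback.fst a g) (pullback.fst b g) g
    (pullback.condition).symm (pullback.condition).symm

theorem isPullback_bcMap₂ :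
    IsPullback (bcMap₂ a b g) (pullback.snd (pullback.snd a g) (pullback.snd b g)) (pullback.snd a b)
      (pullback.fst b g) := by
  refine IsPullback.mk' ?_ (fun T φ φ' h₁ h₂ => ?_) fun T r y hy => ?_
  · simp [bcMap₂]
  · have hx := congrArg (· ≫ pullback.fst a b) h₁
    have hy := congrArg (· ≫ pullback.fst b g) h₂
    have hs := congrArg (· ≫ pullback.snd b g) h₂
    simp [bcMap₂] at hx hy hs
    refine pullback.hom_ext (pullback.hom_ext ?_ ?_) h₂
    · simpa using hx
    · simpa [pullback.condition] using hs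
  · have h1 : (r ≫ pullback.fst a b) ≫ a = (y ≫ pullback.snd b g) ≫ g := by
      rw [Category.assoc, pullback.condition, ← Category.assoc, hy, Category.assoc, pullback.condition,
        Category.assoc]
    refine ⟨pullback.lift (pullback.lift (r ≫ pullback.fst a b) (y ≫ pullback.snd b g) h1) y
      (by rw [pullback.lift_snd]), ?_, ?_⟩
    · ext <;> simp [bcMap₂, hy]
    · simp

/-- Base change of kernel functors. -/
theorem nonempty_pull_phi [QuasiCompact a] [QuasiSeparated a] [QuasiCompact b] [QuasiSeparated b]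
    (hflat : Flat g ∨ Flat a)
    (K : CochainComplex (pullback a b).Modules ℤ) (hK : DCoh.IsQCohD (DCoh.toD _ K))
    [DCoh.HasLpull (pullback.fst a b)] [DCoh.HasLTensorCx K] [DCoh.HasRpush (pullback.snd a b)]
    [DCoh.HasLpull (pullback.fst a g)] [DCoh.HasLpull (pullback.fst b g)] [DCoh.HasLpull (bcMap₂ a b g)]
    (K' : CochainComplex (pullback (pullback.snd a g) (pullback.snd b g)).Modules ℤ)
    (hK' : Nonempty (DCoh.toD _ K' ≅ (DCoh.Lpull (bcMap₂ a b g)).obj (DCoh.toD _ K)))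
    [DCoh.HasLpull (pullback.fst (pullback.snd a g) (pullback.snd b g))] [DCoh.HasLTensorCx K']
    [DCoh.HasRpush (pullback.snd (pullback.snd a g) (pullback.snd b g))] :
    Nonempty (ObjectProperty.ι (DCoh.IsQCohD (X := X)) ⋙ DCoh.Lpull (pullback.fst a g) ⋙
        FMK.phi (pullback.snd a g) (pullback.snd b g) K' ≅
      ObjectProperty.ι (DCoh.IsQCohD (X := X)) ⋙ FMK.phi a b K ⋙ DCoh.Lpull (pullback.fst b g)) := by
  let p := pullback.fst a b
  let q := pullback.snd a b
  let p' := pullback.fst (pullback.snd a g) (pullback.snd b g)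
  let q' := pullback.snd (pullback.snd a g) (pullback.snd b g)
  let m := bcMap₂ a b g
  obtain ⟨eK⟩ := nonempty_phiIso p q K
  obtain ⟨eK'⟩ := nonempty_phiIso p' q' K'
  obtain ⟨l₁⟩ := nonempty_lpull_natIso_lP (pullback.fst a g)
  obtain ⟨l₂⟩ := nonempty_lpull_natIso_lP (pullback.fst b g)
  obtain ⟨lm⟩ := nonempty_lpull_natIso_lP m
  obtain ⟨hK''⟩ := hK'
  let k : DM (pullback a b) := DCoh.toD _ K
  let e : (DCoh.toD _ K' : DM (pullback (pullback.snd a g) (pullback.snd b g))) ≅ (dPull m).obj k :=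
    (hK'' ≪≫ lm.app _ :)
  have hflat' : Flat q ∨ Flat (pullback.fst b g) := by
    rcases hflat with h | h
    · exact Or.inr inferInstance
    · exact Or.inl inferInstance
  let ι := ObjectProperty.ι (DCoh.IsQCohD (X := X))
  obtain ⟨bc⟩ := nonempty_bcIso (isPullback_bcMap₂ a b g) hflat' (ι ⋙ lP p ⋙ tRD k)
    fun F => isQCohD_tRD hK (isQCohD_lP p F.property)
  have hw : p' ≫ pullback.fst a g = m ≫ p := by simp [m, p, p', bcMap₂]
  let x₁ : ι ⋙ DCoh.Lpull (pullback.fst a g) ⋙ FMK.phi (pullback.snd a g) (pullback.snd b g) K' ≅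
      ι ⋙ lP (pullback.fst a g) ⋙ (lP p' ⋙ tRD ((dPull m).obj k) ⋙ DCoh.Rpush q') :=
    Functor.isoWhiskerLeft ι (Functor.isoWhiskerRight l₁ _ ≪≫ Functor.isoWhiskerLeft _
      (eK' ≪≫ Functor.isoWhiskerLeft _ (Functor.isoWhiskerRight (tRDMap e) _)))
  let x₂ : ι ⋙ lP (pullback.fst a g) ⋙ (lP p' ⋙ tRD ((dPull m).obj k) ⋙ DCoh.Rpush q') ≅
      ι ⋙ lP p ⋙ lP m ⋙ tRD ((dPull m).obj k) ⋙ DCoh.Rpush q' :=
    Functor.isoWhiskerLeft ι (Functor.isoWhiskerRight (lPComp p' (pullback.fst a g) hw ≪≫ (lPComp m p rfl).symm)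
      (tRD ((dPull m).obj k) ⋙ DCoh.Rpush q'))
  let x₃ : ι ⋙ lP p ⋙ lP m ⋙ tRD ((dPull m).obj k) ⋙ DCoh.Rpush q' ≅
      (ι ⋙ lP p ⋙ tRD k) ⋙ lP m ⋙ DCoh.Rpush q' :=
    Functor.isoWhiskerLeft (ι ⋙ lP p) (Functor.isoWhiskerRight (tRDPull m k).symm (DCoh.Rpush q'))
  let x₄ : (ι ⋙ lP p ⋙ tRD k) ⋙ DCoh.Rpush q ⋙ lP (pullback.fst b g) ≅
      ι ⋙ FMK.phi a b K ⋙ DCoh.Lpull (pullback.fst b g) :=
    Functor.isoWhiskerLeft ι (Functor.isoWhiskerRight eK.symm _ ≪≫ Functor.isoWhiskerLeft _ l₂.symm)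
  exact ⟨x₁ ≪≫ x₂ ≪≫ x₃ ≪≫ bc.symm ≪≫ x₄⟩

end Groth.Agent.FMAdj9
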