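import Groth.Agent.Lib.FMAdj9.Comp

/-! Composition of Fourier–Mukai functors. -/

set_option autoImplicit false
set_option linter.unusedSectionVars false
set_option linter.style.haveILetI false
set_option backward.isDefEq.respectTransparency false
set_option backward.isDefEq.respectTransparency.types false
set_option maxHeartbeats 1600000

universe u

open CategoryTheory CategoryTheory.Limits MonoidalCategory AlgebraicGeometry

attribute [local instance] HasDerivedCategory.standard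

namespace Groth.Agent.FMAdj9

open DMon9

attribute [local instance] DBC9.hasRpush

variable {S X Y Z : Scheme.{u}} (a : X ⟶ S) (b : Y ⟶ S) (c : Z ⟶ S)

theorem qs_p13 [QuasiSeparated a] [QuasiSeparated b] [QuasiSeparated c] : QuasiSeparated (FMK.p13 a b c) := by
  haveI : QuasiSeparated (FMK.p13 a b c ≫ pullback.fst a c) := by
    rw [FMK.p13_fst]
    infer_instance
  exact QuasiSeparated.of_comp (FMK.p13 a b c) (pullback.fst a c)

theorem qc_p13 [QuasiCompact a] [QuasiSeparated a] [QuasiCompact b] [QuasiCompact c] [QuasiSeparated c] :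
    QuasiCompact (FMK.p13 a b c) := by
  haveI : QuasiCompact (FMK.p13 a b c ≫ pullback.fst a c) := by
    rw [FMK.p13_fst]
    infer_instance
  exact QuasiCompact.of_comp (FMK.p13 a b c) (pullback.fst a c)

/-- The composite kernel computes the composite functor. -/
theorem nonempty_phi_conv [QuasiCompact a] [QuasiSeparated a] [QuasiCompact b] [QuasiSeparated b]
    [QuasiCompact c] [QuasiSeparated c] [QuasiCompact (FMK.p13 a b c)] [QuasiSeparated (FMK.p13 a b c)]
    (hflat : Flat a ∨ Flat c)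
    (K : CochainComplex (pullback a b).Modules ℤ) (M : CochainComplex (pullback b c).Modules ℤ)
    (hK : DCoh.IsQCohD (DCoh.toD _ K)) (hM : DCoh.IsQCohD (DCoh.toD _ M))
    [DCoh.HasLpull (pullback.fst a b)] [DCoh.HasLTensorCx K] [DCoh.HasRpush (pullback.snd a b)]
    [DCoh.HasLpull (pullback.fst b c)] [DCoh.HasLTensorCx M] [DCoh.HasRpush (pullback.snd b c)]
    [DCoh.HasLpull (FMK.p12 a b c)] [DCoh.HasLpull (FMK.p23 a b c)] [DCoh.HasRpush (FMK.p13 a b c)]
    [DCoh.HasLpull (pullback.fst a c)] [DCoh.HasRpush (pullback.snd a c)]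
    (L : CochainComplex (FMK.T a b c).Modules ℤ) [DCoh.HasLTensorCx L]
    (hL : Nonempty (DCoh.toD _ L ≅ (DCoh.Lpull (FMK.p23 a b c)).obj (DCoh.toD _ M)))
    (N : CochainComplex (pullback a c).Modules ℤ) [DCoh.HasLTensorCx N]
    (hN : Nonempty (DCoh.toD _ N ≅ FMK.conv a b c K L)) :
    Nonempty (ObjectProperty.ι (DCoh.IsQCohD (X := X)) ⋙ FMK.phi a c N ≅
      ObjectProperty.ι (DCoh.IsQCohD (X := X)) ⋙ FMK.phi a b K ⋙ FMK.phi b c M) := by
  obtain ⟨eK⟩ := nonempty_phiIso (pullback.fst a b) (pullback.snd a b) K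
  obtain ⟨eM⟩ := nonempty_phiIso (pullback.fst b c) (pullback.snd b c) M
  obtain ⟨eN⟩ := nonempty_phiIso (pullback.fst a c) (pullback.snd a c) N
  let u' := FMK.p12 a b c
  let v := FMK.p23 a b c
  obtain ⟨lu⟩ := nonempty_lpull_natIso_lP u'
  obtain ⟨lv⟩ := nonempty_lpull_natIso_lP v
  obtain ⟨tL⟩ := nonempty_ltIso L
  obtain ⟨hN'⟩ := hN
  obtain ⟨hL'⟩ := hL
  let eL : (DCoh.toD _ L : DM (FMK.T a b c)) ≅ (dPull v).obj (DCoh.toD _ M : DM (pullback b c)) :=
    (hL' ≪≫ lv.app _ :)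
  have hflat' : Flat (pullback.snd a b) ∨ Flat (pullback.fst b c) := by
    rcases hflat with h | h
    · exact Or.inl inferInstance
    · exact Or.inr inferInstance
  obtain ⟨e⟩ := nonempty_comp_iso (pullback.fst a b) (pullback.snd a b) (pullback.fst b c) (pullback.snd b c)
    u' v (pullback.fst a c) (pullback.snd a c) (FMK.p13 a b c) (IsPullback.of_hasPullback _ _) hflat'
    (FMK.p13_fst a b c) (FMK.p13_snd a b c) (DCoh.toD _ K : DM _) hK (DCoh.toD _ M : DM _) hM
  let n : (DCoh.toD _ N : DM (pullback a c)) ≅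
      (rM (FMK.p13 a b c)).obj ((dPull u').obj (DCoh.toD _ K : DM (pullback a b)) ⊗
        (dPull v).obj (DCoh.toD _ M : DM (pullback b c))) :=
    (hN' ≪≫ (DCoh.Rpush (FMK.p13 a b c)).mapIso
      ((tL ≪≫ tRDMap eL).app _ ≪≫
        (tRD ((dPull v).obj (DCoh.toD _ M : DM (pullback b c)))).mapIso (lu.app (DCoh.toD _ K))) :)
  let ι := ObjectProperty.ι (DCoh.IsQCohD (X := X))
  let k : DM (pullback a b) := DCoh.toD _ K
  let m : DM (pullback b c) := DCoh.toD _ M
  let w : ι ⋙ (lP (pullback.fst a b) ⋙ tRD k ⋙ DCoh.Rpush (pullback.snd a b)) ⋙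
      (lP (pullback.fst b c) ⋙ tRD m ⋙ DCoh.Rpush (pullback.snd b c)) ≅ ι ⋙ FMK.phi a b K ⋙ FMK.phi b c M :=
    Functor.isoWhiskerLeft ι (Functor.isoWhiskerRight eK.symm _ ≪≫ Functor.isoWhiskerLeft (FMK.phi a b K) eM.symm)
  exact ⟨Functor.isoWhiskerLeft ι (eN ≪≫ Functor.isoWhiskerLeft _ (Functor.isoWhiskerRight (tRDMap n) _)) ≪≫
    e.symm ≪≫ w⟩

end Groth.Agent.FMAdj9
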