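import Groth.Agent.Lib.FMAdj9.ConvPerf
import Groth.Agent.Lib.FMAdj9.BaseChange

/-! Convolution commutes with base change. -/

set_option autoImplicit false
set_option linter.unusedSectionVars false
set_option linter.style.haveILetI false
set_option backward.isDefEq.respectTransparency false
set_option backward.isDefEq.respectTransparency.types false
set_option maxHeartbeats 1600000

universe u

open CategoryTheory CategoryTheory.Limits MonoidalCategory AlgebraicGeometry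

attribute [local instance] HasDerivedCategory.standard

namespace Groth.Agent.FMAdj9

open DMon9

attribute [local instance] DBC9.hasRpush

variable {S S' X Y Z : Scheme.{u}} (a : X ⟶ S) (b : Y ⟶ S) (c : Z ⟶ S) (g : S' ⟶ S)

/-- The map of triple products induced by base change. -/
noncomputable abbrev bcMap₃ : FMK.T (pullback.snd a g) (pullback.snd b g) (pullback.snd c g) ⟶ FMK.T a b c :=
  pullback.map (pullback.snd (pullback.snd a g) (pullback.snd b g))
    (pullback.fst (pullback.snd b g) (pullback.snd c g)) (pullback.snd a b) (pullback.fst b c)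
    (bcMap₂ a b g) (bcMap₂ b c g) (pullback.fst b g) (by simp [bcMap₂]) (by simp [bcMap₂])

theorem bcMap₃_p12 : bcMap₃ a b c g ≫ FMK.p12 a b c =
    FMK.p12 (pullback.snd a g) (pullback.snd b g) (pullback.snd c g) ≫ bcMap₂ a b g := by
  simp [bcMap₃, FMK.p12]

theorem bcMap₃_p23 : bcMap₃ a b c g ≫ FMK.p23 a b c =
    FMK.p23 (pullback.snd a g) (pullback.snd b g) (pullback.snd c g) ≫ bcMap₂ b c g := by
  simp [bcMap₃, FMK.p23]

theorem bcMap₃_p13 : bcMap₃ a b c g ≫ FMK.p13 a b c =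
    FMK.p13 (pullback.snd a g) (pullback.snd b g) (pullback.snd c g) ≫ bcMap₂ a c g := by
  apply pullback.hom_ext
  · simp only [Category.assoc, FMK.p13_fst, pullback.lift_fst, FMK.p13_fst_assoc, bcMap₃, bcMap₂, FMK.p12,
      pullback.map, pullback.lift_fst_assoc]
  · simp only [Category.assoc, FMK.p13_snd, pullback.lift_snd, FMK.p13_snd_assoc, bcMap₃, bcMap₂, FMK.p23,
      pullback.map, pullback.lift_snd_assoc]

theorem isPullback_bcMap₃ :
    IsPullback (bcMap₃ a b c g) (FMK.p13 (pullback.snd a g) (pullback.snd b g) (pullback.snd c g))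
      (FMK.p13 a b c) (bcMap₂ a c g) := by
  have s := (isPullback_p13 (pullback.snd a g) (pullback.snd b g) (pullback.snd c g)).paste_horiz
    (IsPullback.of_hasPullback b g)
  refine IsPullback.of_right ?_ (bcMap₃_p13 a b c g) (isPullback_p13 a b c)
  have h₁ : bcMap₃ a b c g ≫ FMK.p12 a b c ≫ pullback.snd a b =
      (FMK.p12 (pullback.snd a g) (pullback.snd b g) (pullback.snd c g) ≫
        pullback.snd (pullback.snd a g) (pullback.snd b g)) ≫ pullback.fst b g := by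
    simp [bcMap₃, bcMap₂, FMK.p12]
  have h₂ : bcMap₂ a c g ≫ pullback.fst a c ≫ a =
      (pullback.fst (pullback.snd a g) (pullback.snd c g) ≫ pullback.snd a g) ≫ g := by
    simp [bcMap₂, pullback.condition]
  rw [h₁, h₂]
  exact s

/-- Convolution commutes with base change. -/
theorem nonempty_pull_conv [QuasiCompact (FMK.p13 a b c)] [QuasiSeparated (FMK.p13 a b c)] (hb : Flat b)
    (K : CochainComplex (pullback a b).Modules ℤ) (hK : DCoh.IsQCohD (DCoh.toD _ K))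
    (M : CochainComplex (pullback b c).Modules ℤ) (hM : DCoh.IsQCohD (DCoh.toD _ M))
    [DCoh.HasLpull (FMK.p12 a b c)] [DCoh.HasLpull (FMK.p23 a b c)]
    (L : CochainComplex (FMK.T a b c).Modules ℤ) [DCoh.HasLTensorCx L]
    (hL : Nonempty (DCoh.toD _ L ≅ (DCoh.Lpull (FMK.p23 a b c)).obj (DCoh.toD _ M)))
    [DCoh.HasRpush (FMK.p13 a b c)]
    [DCoh.HasLpull (bcMap₂ a b g)] [DCoh.HasLpull (bcMap₂ b c g)] [DCoh.HasLpull (bcMap₂ a c g)]
    (K₁ : CochainComplex (pullback (pullback.snd a g) (pullback.snd b g)).Modules ℤ)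
    (hK₁ : Nonempty (DCoh.toD _ K₁ ≅ (DCoh.Lpull (bcMap₂ a b g)).obj (DCoh.toD _ K)))
    (M₁ : CochainComplex (pullback (pullback.snd b g) (pullback.snd c g)).Modules ℤ)
    (hM₁ : Nonempty (DCoh.toD _ M₁ ≅ (DCoh.Lpull (bcMap₂ b c g)).obj (DCoh.toD _ M)))
    [DCoh.HasLpull (FMK.p12 (pullback.snd a g) (pullback.snd b g) (pullback.snd c g))]
    [DCoh.HasLpull (FMK.p23 (pullback.snd a g) (pullback.snd b g) (pullback.snd c g))]
    (L₁ : CochainComplex (FMK.T (pullback.snd a g) (pullback.snd b g) (pullback.snd c g)).Modules ℤ)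
    [DCoh.HasLTensorCx L₁]
    (hL₁ : Nonempty (DCoh.toD _ L₁ ≅
      (DCoh.Lpull (FMK.p23 (pullback.snd a g) (pullback.snd b g) (pullback.snd c g))).obj (DCoh.toD _ M₁)))
    [DCoh.HasRpush (FMK.p13 (pullback.snd a g) (pullback.snd b g) (pullback.snd c g))] :
    Nonempty ((DCoh.Lpull (bcMap₂ a c g)).obj (FMK.conv a b c K L) ≅
      FMK.conv (pullback.snd a g) (pullback.snd b g) (pullback.snd c g) K₁ L₁) := by
  haveI : Flat (FMK.p13 a b c) := MorphismProperty.of_isPullback (isPullback_p13 a b c) hb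
  let u' := FMK.p12 a b c
  let v := FMK.p23 a b c
  let u₁ := FMK.p12 (pullback.snd a g) (pullback.snd b g) (pullback.snd c g)
  let v₁ := FMK.p23 (pullback.snd a g) (pullback.snd b g) (pullback.snd c g)
  let m := bcMap₃ a b c g
  obtain ⟨lu⟩ := nonempty_lpull_natIso_lP u'
  obtain ⟨lv⟩ := nonempty_lpull_natIso_lP v
  obtain ⟨lu₁⟩ := nonempty_lpull_natIso_lP u₁
  obtain ⟨lv₁⟩ := nonempty_lpull_natIso_lP v₁
  obtain ⟨l₁₂⟩ := nonempty_lpull_natIso_lP (bcMap₂ a b g)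
  obtain ⟨l₂₃⟩ := nonempty_lpull_natIso_lP (bcMap₂ b c g)
  obtain ⟨l₁₃⟩ := nonempty_lpull_natIso_lP (bcMap₂ a c g)
  obtain ⟨t⟩ := nonempty_ltIso L
  obtain ⟨t₁⟩ := nonempty_ltIso L₁
  obtain ⟨eL⟩ := hL
  obtain ⟨eL₁⟩ := hL₁
  obtain ⟨eK₁⟩ := hK₁
  obtain ⟨eM₁⟩ := hM₁
  let k : DM (pullback a b) := DCoh.toD _ K
  let n : DM (pullback b c) := DCoh.toD _ M
  let l : DM (FMK.T a b c) := DCoh.toD _ L
  let l' : DM (FMK.T (pullback.snd a g) (pullback.snd b g) (pullback.snd c g)) := DCoh.toD _ L₁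
  let ek : (dPull v).obj n ≅ l := ((eL ≪≫ lv.app _).symm :)
  have hl : DCoh.IsQCohD (l : DCoh.D (FMK.T a b c)) :=
    DQC.isQCohD_of_iso (eL ≪≫ lv.app _).symm (isQCohD_lP v hM)
  obtain ⟨bc⟩ := nonempty_bcIso (isPullback_bcMap₃ a b c g).flip.flip (Or.inl inferInstance)
    (ObjectProperty.ι (DCoh.IsQCohD (X := FMK.T a b c)))
    fun F => F.property
  let A : (DCoh.IsQCohD (X := FMK.T a b c)).FullSubcategory :=
    ⟨(tRD l).obj ((lP u').obj (DCoh.toD _ K)), isQCohD_tRD hl (isQCohD_lP u' hK)⟩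
  -- the inner objects
  let e₁ : (lP m).obj A.obj ≅
      (tRD ((dPull m).obj l)).obj ((lP m).obj ((lP u').obj (DCoh.toD _ K))) :=
    (tRDPull m l).app _
  let e₂ : (lP m).obj ((lP u').obj (DCoh.toD _ K)) ≅ (DCoh.Lpull u₁).obj (DCoh.toD _ K₁) :=
    (lPComp m u' (bcMap₃_p12 a b c g) ≪≫ (lPComp u₁ (bcMap₂ a b g) rfl).symm).app _ ≪≫
      (lP u₁).mapIso (eK₁ ≪≫ l₁₂.app _).symm ≪≫ (lu₁.app _).symm
  let e₃ : (dPull m).obj l ≅ l' :=
    ((lP m).mapIso (eL ≪≫ lv.app _) ≪≫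
      (lPComp m v (bcMap₃_p23 a b c g) ≪≫ (lPComp v₁ (bcMap₂ b c g) rfl).symm).app _ ≪≫
      (lP v₁).mapIso (eM₁ ≪≫ l₂₃.app _).symm ≪≫ (lv₁.app _).symm ≪≫ eL₁.symm :)
  let e₄ : (lP m).obj A.obj ≅ (DCoh.LTensorCx L₁).obj ((DCoh.Lpull u₁).obj (DCoh.toD _ K₁)) :=
    e₁ ≪≫ (tRDMap e₃).app _ ≪≫ (tRD l').mapIso e₂ ≪≫ (t₁.app _).symm
  exact ⟨l₁₃.app _ ≪≫
    (lP (bcMap₂ a c g)).mapIso ((DCoh.Rpush (FMK.p13 a b c)).mapIso
      (t.app _ ≪≫ (tRD l).mapIso (lu.app _))) ≪≫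
    bc.app A ≪≫ (DCoh.Rpush _).mapIso e₄⟩

end Groth.Agent.FMAdj9
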