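import Groth.Agent.Lib.FMAdj9.ConvBC
import Groth.Agent.Lib.Exact8.TorIndBC
import Groth.Agent.Lib.TwistBC9.Tensor
import Groth.Agent.Lib.FMDiag9.Basic

/-! Base change of the diagonal. -/

set_option autoImplicit false
set_option linter.unusedSectionVars false
set_option linter.style.haveILetI false
set_option backward.isDefEq.respectTransparency false
set_option backward.isDefEq.respectTransparency.types false
set_option maxHeartbeats 1600000

universe u

open CategoryTheory CategoryTheory.Limits MonoidalCategory AlgebraicGeometry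

attribute [local instance] HasDerivedCategory.standard

namespace Groth.Agent.FMAdj9

open DMon9

attribute [local instance] DBC9.hasRpush

variable {X Y X' Y' S₀ S₁ : Scheme.{u}}

/-- Base change along a base change of a common base of flatness. -/
theorem good_of_common_base {f : X ⟶ Y} [QuasiCompact f] [QuasiSeparated f] {f' : X' ⟶ Y'} {g : Y' ⟶ Y}
    {g' : X' ⟶ X} (hsq : IsPullback g' f' f g) {q : Y ⟶ S₀} [Flat q] [Flat (f ≫ q)] {e : S₁ ⟶ S₀} {u₁ : Y' ⟶ S₁}
    (H₁ : IsPullback u₁ g e q) : DBC9.Good f f' g g' := by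
  refine DBC9.good_local fun y => ?_
  obtain ⟨R, hR, hyR, -⟩ := exists_isAffineOpen_mem_and_subset (U := (⊤ : S₀.Opens)) (x := e (u₁ y)) trivial
  obtain ⟨W₁, hW₁, hyW, hWR⟩ := exists_isAffineOpen_mem_and_subset (U := e ⁻¹ᵁ R) (x := u₁ y) hyR
  have hq : q (g y) = e (u₁ y) := by rw [← Scheme.Hom.comp_apply, ← H₁.w, Scheme.Hom.comp_apply]
  obtain ⟨U, hU, hyU, hUR⟩ := exists_isAffineOpen_mem_and_subset (U := q ⁻¹ᵁ R) (x := g y)
    (show q (g y) ∈ R from hq ▸ hyR)
  let U' := u₁ ⁻¹ᵁ W₁ ⊓ g ⁻¹ᵁ U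
  have hU' : IsAffineOpen U' := FlatH4.isAffineOpen_of_isPullback H₁ hUR hWR rfl hR hU hW₁
  have hle : U' ≤ g ⁻¹ᵁ U := inf_le_right
  have hR₁ := FlatH4.isPushout_sections H₁ hUR hWR (UY := U') rfl hR hU hW₁
  refine ⟨U', _, pullback.fst f' U'.ι, inferInstance, pullback.snd f' U'.ι,
    (IsPullback.of_hasPullback f' U'.ι).flip, ⟨hyW, hyU⟩, ?_⟩
  let e₀ : Spec Γ(Y', U') ⟶ U'.toScheme := hU'.isoSpec.inv
  let fV := pullback.snd f' U'.ι
  let i := pullback.fst f' U'.ι
  refine DBC9.good_isoBase e₀ (pullback.fst fV e₀) (pullback.snd fV e₀) pullback.condition.symm ?_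
  let T := pullback hU.fromSpec f
  have hT : IsPullback (pullback.fst hU.fromSpec f) (pullback.snd hU.fromSpec f) hU.fromSpec f :=
    IsPullback.of_hasPullback _ _
  have hV : IsPullback (pullback.fst fV e₀ ≫ i ≫ g') (pullback.snd fV e₀) f (hU'.fromSpec ≫ g) := by
    have h1 := (IsPullback.of_hasPullback fV e₀).paste_horiz
      ((IsPullback.of_hasPullback f' U'.ι).paste_horiz hsq)
    rwa [show e₀ ≫ U'.ι ≫ g = hU'.fromSpec ≫ g from (Category.assoc _ _ _).symm] at h1
  have hw : Spec.map (g.appLE U U' hle) ≫ hU.fromSpec = hU'.fromSpec ≫ g := hU.SpecMap_appLE_fromSpec g hU' hle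
  let g₁' : pullback fV e₀ ⟶ T := hT.lift (pullback.snd fV e₀ ≫ Spec.map (g.appLE U U' hle))
    (pullback.fst fV e₀ ≫ i ≫ g') (by rw [Category.assoc, hw, hV.w])
  have hg₁ : g₁' ≫ pullback.snd hU.fromSpec f = pullback.fst fV e₀ ≫ i ≫ g' := hT.lift_snd _ _ _
  have hP : IsPullback g₁' (pullback.snd fV e₀) (pullback.fst hU.fromSpec f) (Spec.map (g.appLE U U' hle)) := by
    refine IsPullback.of_right ?_ (hT.lift_fst _ _ _) hT.flip
    rw [hg₁, hw]
    exact hV
  refine DBC9.good_base (j := hU.fromSpec) hT (g₁ := Spec.map (g.appLE U U' hle)) (g₁' := g₁') ?_ hg₁ ?_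
  · exact hw.trans (Category.assoc _ _ _)
  · obtain ⟨_, hr⟩ := DBC9.isOpenImmersion_of_pullback hT.flip
    refine DBC9.overOpen_compact f g hU hle (f.isQuasiSeparated_preimage hU.isQuasiSeparated) ?_ (f ⁻¹ᵁ U)
      (f.isCompact_preimage hU.isCompact) le_rfl T _ (pullback.snd hU.fromSpec f) inferInstance
      (by rw [hr, IsAffineOpen.opensRange_fromSpec]) _ hT.w _ _ hP
    intro V hV' hVU
    refine Exact8.torIndep_pushout hR₁.flip (f.appLE U V hVU)
      (HasRingHomProperty.appLE @Flat q inferInstance ⟨R, hR⟩ ⟨U, hU⟩ hUR) ?_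
    rw [Scheme.Hom.appLE_comp_appLE]
    exact HasRingHomProperty.appLE @Flat (f ≫ q) inferInstance ⟨R, hR⟩ ⟨V, hV'⟩ fun x hx => hUR (hVU hx)

/-- The diagonal of a base change. -/
theorem isPullback_diagonal {S S' : Scheme.{u}} (a : X ⟶ S) (g : S' ⟶ S) :
    IsPullback (pullback.fst a g) (pullback.diagonal (pullback.snd a g)) (pullback.diagonal a) (bcMap₂ a a g) := by
  refine IsPullback.of_bot ?_ ?_ (isPullback_bcMap₂ a a g)
  · rw [pullback.diagonal_snd, pullback.diagonal_snd]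
    exact IsPullback.of_vert_isIso ⟨by simp⟩
  · apply pullback.hom_ext <;> simp [bcMap₂]

/-- The diagonal kernel commutes with base change. -/
theorem nonempty_pull_diagO {S S' : Scheme.{u}} (a : X ⟶ S) [Flat a] [IsSeparated a] (g : S' ⟶ S)
    [DCoh.HasLpull (bcMap₂ a a g)] :
    Nonempty ((DCoh.Lpull (bcMap₂ a a g)).obj (FMK.diagO a) ≅ FMK.diagO (pullback.snd a g)) := by
  let Δ := pullback.diagonal a
  let Δ' := pullback.diagonal (pullback.snd a g)
  let m := bcMap₂ a a g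
  haveI : Flat (Δ ≫ pullback.snd a a) := by
    rw [pullback.diagonal_snd]
    infer_instance
  have hgood : DBC9.Good Δ Δ' m (pullback.fst a g) :=
    good_of_common_base (isPullback_diagonal a g) (isPullback_bcMap₂ a a g).flip
  obtain ⟨l⟩ := nonempty_lpull_natIso_lP m
  obtain ⟨r⟩ := RHom.nonempty_rpushIso Δ
  obtain ⟨r'⟩ := RHom.nonempty_rpushIso Δ'
  obtain ⟨o⟩ := TwistBC9.nonempty_lP_oneM (pullback.fst a g) 0
  let σ : lP m ⋙ lP Δ' ≅ lP Δ ⋙ lP (pullback.fst a g) := DBC9.σcan (isPullback_diagonal a g).w.symm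
  haveI := hgood (adjLP Δ) (adjLP Δ') σ (DCoh.inD X (Coh.structureModule X))
    (TwistBC9.isQCohD_inD _ (M1.isQCoh_structureModule X) 0)
  exact ⟨l.app _ ≪≫
    (lP m).mapIso ((((Scheme.Modules.pushforward Δ).mapDerivedCategorySingleFunctor 0).app
      (Coh.structureModule X)).symm ≪≫ (r.app _).symm) ≪≫
    asIso ((DBC9.bc (adjLP Δ) (adjLP Δ') σ.hom).app (DCoh.inD X (Coh.structureModule X))) ≪≫
    (DCoh.Rpush Δ').mapIso o ≪≫ r'.app _ ≪≫
    ((Scheme.Modules.pushforward Δ').mapDerivedCategorySingleFunctor 0).app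
      (Coh.structureModule (pullback a g))⟩

end Groth.Agent.FMAdj9
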