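import Groth.Agent.Lib.FMAdj9.ConvPerf
import Groth.Agent.S13565

/-! Kernels of relative equivalences give equivalences. -/

set_option autoImplicit false
set_option linter.unusedSectionVars false
set_option linter.style.haveILetI false
set_option backward.isDefEq.respectTransparency false
set_option backward.isDefEq.respectTransparency.types false
set_option maxHeartbeats 1600000

universe u

open CategoryTheory CategoryTheory.Limits MonoidalCategory AlgebraicGeometry

attribute [local instance] HasDerivedCategory.standard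

namespace Groth.Agent.FMAdj9

open DMon9

attribute [local instance] DBC9.hasRpush

variable {S X Y : Scheme.{u}} (a : X ⟶ S) (b : Y ⟶ S)

/-- Two kernels composing to the diagonal give inverse functors. -/
theorem nonempty_comp_id [Smooth a] [IsProper a] [Smooth b] [IsProper b]
    (K : CochainComplex (pullback a b).Modules ℤ) (K' : CochainComplex (pullback b a).Modules ℤ)
    (hK : DCoh.IsPerfect (DCoh.toD _ K)) (hK' : DCoh.IsPerfect (DCoh.toD _ K'))
    [DCoh.HasLpull (pullback.fst a b)] [DCoh.HasLTensorCx K] [DCoh.HasRpush (pullback.snd a b)]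
    [DCoh.HasLpull (pullback.fst b a)] [DCoh.HasLTensorCx K'] [DCoh.HasRpush (pullback.snd b a)]
    [DCoh.HasLpull (FMK.p12 a b a)] [DCoh.HasLTensorCx ((FMK.cxPull (FMK.p23 a b a)).obj K')]
    [DCoh.HasRpush (FMK.p13 a b a)]
    (h : Nonempty (FMK.diagO a ≅ FMK.conv a b a K ((FMK.cxPull (FMK.p23 a b a)).obj K'))) :
    Nonempty (ObjectProperty.ι (DCoh.IsQCohD (X := X)) ⋙ FMK.phi a b K ⋙ FMK.phi b a K' ≅
      ObjectProperty.ι (DCoh.IsQCohD (X := X))) := by
  haveI : DCoh.HasLpull (FMK.p23 a b a) := KFlat.Sch.hasLpull _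
  haveI : DCoh.HasLpull (pullback.fst a a) := KFlat.Sch.hasLpull _
  haveI : DCoh.HasRpush (pullback.snd a a) := DBC9.hasRpush _
  haveI : QuasiCompact (FMK.p13 a b a) := qc_p13 a b a
  haveI : QuasiSeparated (FMK.p13 a b a) := qs_p13 a b a
  haveI : Flat (FMK.p23 a b a) := inferInstance
  obtain ⟨eL⟩ := nonempty_cxPull_iso (FMK.p23 a b a) K'
  obtain ⟨N, ⟨eN⟩⟩ : ∃ N : CochainComplex (pullback a a).Modules ℤ,
      Nonempty (DCoh.toD _ N ≅ FMK.diagO a) := ⟨_, ⟨DerivedCategory.Q.objObjPreimageIso _⟩⟩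
  haveI : DCoh.HasLTensorCx N := KFlat.Sch.hasLTensorCx N
  obtain ⟨e⟩ := nonempty_phi_conv a b a (Or.inl inferInstance) K K' (DGen9.isQCohD_of_isPerfect hK)
    (DGen9.isQCohD_of_isPerfect hK') ((FMK.cxPull (FMK.p23 a b a)).obj K') ⟨eL⟩ N ⟨eN ≪≫ h.some⟩
  obtain ⟨d⟩ := S13565.result a N ⟨eN⟩
  exact ⟨e.symm ≪≫ Functor.isoWhiskerLeft _ d ≪≫ Functor.rightUnitor _⟩

/-- The kernel functor is an equivalence on objects with quasi-coherent cohomology. -/
theorem isEquivalence_qcoh [Smooth a] [IsProper a] [Smooth b] [IsProper b]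
    (K : CochainComplex (pullback a b).Modules ℤ)
    [DCoh.HasLpull (pullback.fst a b)] [DCoh.HasLTensorCx K] [DCoh.HasRpush (pullback.snd a b)]
    [DCoh.HasLpull (FMK.p12 a b a)] [DCoh.HasRpush (FMK.p13 a b a)]
    [∀ L : CochainComplex (FMK.T a b a).Modules ℤ, DCoh.HasLTensorCx L]
    [DCoh.HasLpull (FMK.p12 b a b)] [DCoh.HasRpush (FMK.p13 b a b)]
    [∀ L : CochainComplex (FMK.T b a b).Modules ℤ, DCoh.HasLTensorCx L]
    (hK : FMK.IsRelEquivKernel a b K) :
    (∀ h : ∀ M : DCoh.D X, DCoh.IsQCohD M → DCoh.IsQCohD ((FMK.phi a b K).obj M),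
      (FMK.phiOn a b K DCoh.IsQCohD DCoh.IsQCohD h).IsEquivalence) ∧
    (∀ h : ∀ M : DCoh.D X, SGA6.perfP X M → SGA6.perfP Y ((FMK.phi a b K).obj M),
      (FMK.phiOn a b K (SGA6.perfP X) (SGA6.perfP Y) h).IsEquivalence) := by
  obtain ⟨hKp, K', hK'p, hX, hY⟩ := hK
  haveI : DCoh.HasLpull (pullback.fst b a) := KFlat.Sch.hasLpull _
  haveI : DCoh.HasLTensorCx K' := KFlat.Sch.hasLTensorCx _
  haveI : DCoh.HasRpush (pullback.snd b a) := DBC9.hasRpush _
  obtain ⟨eX⟩ := nonempty_comp_id a b K K' hKp hK'p hX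
  obtain ⟨eY⟩ := nonempty_comp_id b a K' K hK'p hKp hY
  obtain ⟨eP⟩ := nonempty_phiIso (pullback.fst b a) (pullback.snd b a) K'
  refine ⟨fun h => ?_, fun h => ?_⟩
  · have h' : ∀ N : DCoh.D Y, DCoh.IsQCohD N → DCoh.IsQCohD ((FMK.phi b a K').obj N) := fun N hN =>
      DQC.isQCohD_of_iso (eP.app N).symm
        (rpushPreservesQCoh (pullback.snd b a) (isQCohD_tRD (DGen9.isQCohD_of_isPerfect hK'p) (isQCohD_lP _ hN)))
    exact (CategoryTheory.Equivalence.mk (FMK.phiOn a b K DCoh.IsQCohD DCoh.IsQCohD h)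
      (FMK.phiOn b a K' DCoh.IsQCohD DCoh.IsQCohD h')
      (Functor.fullyFaithfulCancelRight (ObjectProperty.ι _) (eX.symm))
      (Functor.fullyFaithfulCancelRight (ObjectProperty.ι _) eY)).isEquivalence_functor
  · have h' : ∀ N : DCoh.D Y, SGA6.perfP Y N → SGA6.perfP X ((FMK.phi b a K').obj N) := fun N hN =>
      DGen9.isPerfect_of_iso (eP.app N).symm
        (PerfPush9.isPerfect_rpush_flat (pullback.snd b a) _
          (isPerfect_tensor_perf (A := ((lP (pullback.fst b a)).obj N : DM (pullback b a)))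
            (PerfPush9.isPerfect_lP _ hN) hK'p))
    have hXle : SGA6.perfP X ≤ DCoh.IsQCohD (X := X) := fun _ hM => DGen9.isQCohD_of_isPerfect hM
    have hYle : SGA6.perfP Y ≤ DCoh.IsQCohD (X := Y) := fun _ hM => DGen9.isQCohD_of_isPerfect hM
    exact (CategoryTheory.Equivalence.mk (FMK.phiOn a b K (SGA6.perfP X) (SGA6.perfP Y) h)
      (FMK.phiOn b a K' (SGA6.perfP Y) (SGA6.perfP X) h')
      (Functor.fullyFaithfulCancelRight (ObjectProperty.ι _)
        (Functor.isoWhiskerLeft (ObjectProperty.ιOfLE hXle) eX).symm)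
      (Functor.fullyFaithfulCancelRight (ObjectProperty.ι _)
        (Functor.isoWhiskerLeft (ObjectProperty.ιOfLE hYle) eY))).isEquivalence_functor

end Groth.Agent.FMAdj9
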