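import Groth.Agent.Lib.FMAdj9.Basic
import Groth.Agent.Lib.Dual8.Coprod
import Groth.Agent.Lib.DGen9.PerfMain

/-! Adjunctions of kernel functors on objects with quasi-coherent cohomology. -/

set_option autoImplicit false
set_option linter.unusedSectionVars false
set_option linter.style.haveILetI false
set_option backward.isDefEq.respectTransparency false
set_option backward.isDefEq.respectTransparency.types false
set_option maxHeartbeats 800000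

universe u

open CategoryTheory CategoryTheory.Limits MonoidalCategory AlgebraicGeometry

attribute [local instance] HasDerivedCategory.standard

namespace Groth.Agent.FMAdj9

open DMon9

attribute [local instance] DBC9.hasRpush

variable {X Y P : Scheme.{u}}

/-- The quasi-coherent property. -/
abbrev qP (X : Scheme.{u}) : ObjectProperty (DCoh.D X) := DCoh.IsQCohD

/-- Lift to quasi-coherent objects. -/
noncomputable abbrev liftQ (F : DCoh.D X ⥤ DCoh.D Y) (h : ∀ M, DCoh.IsQCohD M → DCoh.IsQCohD (F.obj M)) :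
    (qP X).FullSubcategory ⥤ (qP Y).FullSubcategory :=
  ObjectProperty.lift (qP Y) (ObjectProperty.ι _ ⋙ F) fun M => h M.obj M.property

/-- An adjunction restricts to quasi-coherent objects. -/
noncomputable def restrictQ {F : DCoh.D X ⥤ DCoh.D Y} {G : DCoh.D Y ⥤ DCoh.D X} (adj : F ⊣ G)
    (hF : ∀ M, DCoh.IsQCohD M → DCoh.IsQCohD (F.obj M)) (hG : ∀ M, DCoh.IsQCohD M → DCoh.IsQCohD (G.obj M)) :
    liftQ F hF ⊣ liftQ G hG :=
  adj.restrictFullyFaithful (ObjectProperty.fullyFaithfulι _) (ObjectProperty.fullyFaithfulι _)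
    (ObjectProperty.liftCompιIso _ _ _).symm (ObjectProperty.liftCompιIso _ _ _).symm

variable (p : P ⟶ X) (q : P ⟶ Y) [QuasiCompact p] [QuasiSeparated p] [QuasiCompact q] [QuasiSeparated q]

/-- The left factor of a kernel functor. -/
theorem nonempty_right_adjoint (k D : DM P) [ExactPairing k D] (hk : DCoh.IsQCohD (k : DCoh.D P))
    (hD : DCoh.IsQCohD (D : DCoh.D P)) {aq : DCoh.DQCoh Y ⥤ DCoh.DQCoh P}
    (hR : DCoh.RpushPreservesQCoh q) (adj : DCoh.RpushQ q hR ⊣ aq) (ω : DM P)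
    (e : aq ⋙ ObjectProperty.ι _ ≅ ObjectProperty.ι _ ⋙ lP q ⋙ tRD ω)
    {Φ : (qP X).FullSubcategory ⥤ (qP Y).FullSubcategory}
    (eΦ : Φ ⋙ ObjectProperty.ι _ ≅ ObjectProperty.ι _ ⋙ lP p ⋙ tRD k ⋙ DCoh.Rpush q)
    {Ψ : (qP Y).FullSubcategory ⥤ (qP X).FullSubcategory}
    (eΨ : Ψ ⋙ ObjectProperty.ι _ ≅ ObjectProperty.ι _ ⋙ lP q ⋙ tRD (ω ⊗ D : DM P) ⋙ DCoh.Rpush p) :
    Nonempty (Φ ⊣ Ψ) := by
  let adj₁ := restrictQ (adjLP p) (fun M hM => isQCohD_lP p hM) (fun M hM => rpushPreservesQCoh p hM)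
  let adj₂ := restrictQ (tRDAdj k D) (fun M hM => isQCohD_tRD hk hM) (fun M hM => isQCohD_tRD hD hM)
  let A := (adj₁.comp adj₂).comp adj
  let F := (ObjectProperty.fullyFaithfulι (qP Y))
  let G := (ObjectProperty.fullyFaithfulι (qP X))
  haveI := F.faithful; haveI := F.full
  haveI := G.faithful; haveI := G.full
  let l : (liftQ (lP p) (fun M hM => isQCohD_lP p hM) ⋙ liftQ (tRD k) (fun M hM => isQCohD_tRD hk hM)) ⋙
      DCoh.RpushQ q hR ≅ Φ :=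
    Functor.fullyFaithfulCancelRight (ObjectProperty.ι _) (Iso.refl _ ≪≫ eΦ.symm)
  let r : aq ⋙ (liftQ (tRD D) (fun M hM => isQCohD_tRD hD hM) ⋙
      liftQ (DCoh.Rpush p) (fun M hM => rpushPreservesQCoh p hM)) ≅ Ψ :=
    Functor.fullyFaithfulCancelRight (ObjectProperty.ι _)
      ((Functor.isoWhiskerRight e (tRD D ⋙ DCoh.Rpush p) :) ≪≫
        (Functor.isoWhiskerLeft (ObjectProperty.ι _ ⋙ lP q) (Functor.isoWhiskerRight (tRDComp ω D) (DCoh.Rpush p)) :) ≪≫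
        eΨ.symm)
  exact ⟨(A.ofNatIsoLeft l).ofNatIsoRight r⟩

/-- Right adjoint of a kernel functor with perfect kernel, proper flat case. -/
theorem nonempty_phiOn_adj [IsProper q] [Flat q] [LocallyOfFinitePresentation q] [CompactSpace Y] [QuasiSeparatedSpace Y]
    [CompactSpace P] [QuasiSeparatedSpace P]
    (K : CochainComplex P.Modules ℤ) (hK : DCoh.IsPerfect (DCoh.toD _ K)) (hKq : DCoh.IsQCohD (DCoh.toD _ K))
    [DCoh.HasLpull p] [DCoh.HasLTensorCx K] [DCoh.HasRpush q] [DCoh.HasRSheafHom K]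
    (hR : DCoh.RpushPreservesQCoh q) [DCoh.HasShriek q hR]
    (OY : DCoh.DQCoh Y) (hOY : OY.obj ≅ DCoh.inD Y (Coh.structureModule Y))
    {P' : Scheme.{u}} (σ : P' ⟶ P) [IsIso σ] {p' : P' ⟶ X} {q' : P' ⟶ Y} (hp : σ ≫ p = p') (hq : σ ≫ q = q')
    [DCoh.HasLpull σ] (K' : CochainComplex P'.Modules ℤ)
    (hK' : Nonempty (DCoh.toD _ K' ≅ (DCoh.Lpull σ).obj ((DCoh.RSheafHom K).obj (DCoh.dualizingCx q hR OY))))
    [DCoh.HasLpull q'] [DCoh.HasLTensorCx K'] [DCoh.HasRpush p']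
    (h : ∀ M : DCoh.D X, DCoh.IsQCohD M → DCoh.IsQCohD ((DCoh.Lpull p ⋙ DCoh.LTensorCx K ⋙ DCoh.Rpush q).obj M))
    (h' : ∀ N : DCoh.D Y, DCoh.IsQCohD N → DCoh.IsQCohD ((DCoh.Lpull q' ⋙ DCoh.LTensorCx K' ⋙ DCoh.Rpush p').obj N)) :
    Nonempty (liftQ (DCoh.Lpull p ⋙ DCoh.LTensorCx K ⋙ DCoh.Rpush q) h ⊣
      liftQ (DCoh.Lpull q' ⋙ DCoh.LTensorCx K' ⋙ DCoh.Rpush p') h') := by
  haveI : DCoh.HasLpull q := KFlat.Sch.hasLpull q
  obtain ⟨D, hDp, ⟨pk⟩⟩ := BC8.exists_pairing_left_perfect (DCoh.toD _ K : DM P) hK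
  haveI := pk
  let ω : DM P := DCoh.dualizingCx q hR OY
  obtain ⟨F, ⟨eF⟩⟩ : ∃ F : CochainComplex P.Modules ℤ, Nonempty (DCoh.toD P F ≅ (ω : DCoh.D P)) :=
    ⟨_, ⟨DerivedCategory.Q.objObjPreimageIso _⟩⟩
  haveI := KFlat.Sch.hasLTensorCx F
  obtain ⟨e₀⟩ := Dual8.nonempty_formula' (DCoh.shriekAdj q hR) OY
    (fun J => Dual8.preservesCoproducts (DCoh.shriekAdj q hR)
      (fun E hE => PerfPush9.isPerfect_rpush_flat q E hE) J) ⟨hOY⟩ F ⟨eF⟩
  obtain ⟨l⟩ := nonempty_lpull_natIso_lP q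
  obtain ⟨t⟩ := nonempty_ltIso F
  let e := e₀ ≪≫ Functor.isoWhiskerLeft _ (Functor.isoWhiskerRight l _ ≪≫ Functor.isoWhiskerLeft _
    (t ≪≫ tRDMap (show (DCoh.toD P F : DM P) ≅ ω from eF)))
  obtain ⟨rh⟩ := nonempty_rhomIso K (k := (DCoh.toD _ K : DM P)) (Iso.refl _) D
  obtain ⟨eΦ⟩ := nonempty_phiIso p q K
  obtain ⟨eK'⟩ := hK'
  obtain ⟨eΨ⟩ := nonempty_swap σ q p hq hp K' (ω ⊗ D : DM P)
    ⟨eK' ≪≫ (DCoh.Lpull σ).mapIso (rh.app (ω : DCoh.D P))⟩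
  exact nonempty_right_adjoint p q _ D hKq (DGen9.isQCohD_of_isPerfect hDp) hR (DCoh.shriekAdj q hR) ω e
    (ObjectProperty.liftCompιIso _ _ _ ≪≫ Functor.isoWhiskerLeft _ eΦ)
    (ObjectProperty.liftCompιIso _ _ _ ≪≫ Functor.isoWhiskerLeft _ eΨ)

end Groth.Agent.FMAdj9
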